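import Cfsg.Agent.H414.T29.Cover
import Cfsg.Agent.H414.T29.Aut4
import Cfsg.Agent.H373.Recog

/-!
# `PSL_n(q)`, `n = 2 ^ m ≥ 16`, `q = 2 ^ k`: the theorem from the identification of the simple section (helper361)
-/

set_option autoImplicit false

namespace Cfsg.Agent.H361.AsmT29

open Subgroup Cfsg.Agent.H414.T29 Cfsg.Agent.H373.Recog
open Cfsg.Agent.H420.QR (IsCoq SHyp Red)

universe u v

variable {F : Type v} [Field F] [Fintype F] {k m : ℕ} {G : Type u} [Group G] [Finite G]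

/-- same element orders: same primes and adjacencies -/
theorem same_of_range {L : Type v} [Group L] [Finite L]
    (h : Set.range (orderOf : G → ℕ) = Set.range (orderOf : L → ℕ)) :
    (∀ r : ℕ, r.Prime → (r ∣ Nat.card L ↔ r ∣ Nat.card G)) ∧
      (∀ r s : ℕ, r.Prime → s.Prime → r ≠ s → ((∃ x : L, orderOf x = r * s) ↔ (∃ y : G, orderOf y = r * s))) := by
  have key : ∀ N : ℕ, (∃ x : L, orderOf x = N) ↔ (∃ y : G, orderOf y = N) := by
    intro N
    have h1 : N ∈ Set.range (orderOf : G → ℕ) ↔ N ∈ Set.range (orderOf : L → ℕ) := by rw [h]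
    exact h1.symm
  refine ⟨fun r hr => ?_, fun r s _ _ _ => key _⟩
  have hfr := Fact.mk hr
  constructor
  · intro hd
    obtain ⟨x, hx⟩ := exists_prime_orderOf_dvd_card' r hd
    obtain ⟨y, hy⟩ := (key r).1 ⟨x, hx⟩
    exact hy ▸ orderOf_dvd_natCard y
  · intro hd
    obtain ⟨x, hx⟩ := exists_prime_orderOf_dvd_card' r hd
    obtain ⟨y, hy⟩ := (key r).2 ⟨x, hx⟩
    exact hy ▸ orderOf_dvd_natCard y

/-- **From the identification of the section to the theorem.** -/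
theorem main_of_ident (hF : Fintype.card F = 2 ^ k) (hm : 4 ≤ m)
    (h : Set.range (orderOf : G → ℕ) = Set.range (orderOf : PL m F → ℕ))
    (hid : ∀ (K : Subgroup G) [K.Normal] (S : Subgroup (G ⧸ K)) [S.Normal], Red G K S → SHyp (PL m F) ↥S →
      (∀ s : S, ∃ l : PL m F, orderOf l = orderOf s) → Nonempty (S ≃* PL m F)) :
    Nonempty (G ≃* PL m F) := by
  have hk := one_lt hF
  obtain ⟨w, hw, hcoq, hcard⟩ := exists_coc hF hm
  have h8 : 8 ≤ 2 ^ (m - 1) := by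
    calc 8 = 2 ^ 3 := rfl
      _ ≤ 2 ^ (m - 1) := Nat.pow_le_pow_right (by norm_num) (by omega)
  have hn : 16 ≤ 2 ^ m := by
    calc 16 = 2 ^ 4 := rfl
      _ ≤ 2 ^ m := Nat.pow_le_pow_right (by norm_num) hm
  obtain ⟨s, hs⟩ := exists_pp (i := 2 ^ m * k) (by
    have : 2 ^ m * 1 ≤ 2 ^ m * k := Nat.mul_le_mul_left _ hk
    omega)
  obtain ⟨gs, hgs⟩ := exists_of_pp (m := m) hF (by omega) (j := 2 ^ m) (by omega) le_rfl hs
  have hω' : ∀ g : G, ∃ y : PL m F, orderOf y = orderOf g := by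
    intro g
    have h1 : orderOf g ∈ Set.range (orderOf : PL m F → ℕ) := h ▸ ⟨g, rfl⟩
    obtain ⟨y, hy⟩ := h1
    exact ⟨y, hy⟩
  obtain ⟨K, hKn, S, hSn, hred, hshyp⟩ := Cfsg.Agent.H420.QR.exists_red_of_same (G := G) (L := PL m F) (same_of_range h)
    hcoq (by omega) ⟨s, hs.prime, hs.ne_two (Nat.mul_pos (by omega) hk), hgs ▸ orderOf_dvd_natCard gs, by
      rintro ⟨x, hx⟩
      have hq : 2 ≤ 2 ^ k := Nat.one_lt_two_pow (by omega)
      have h1 := top hF (by omega) x hs.prime (hs.ord_mul (by omega)) (by rw [hx]; exact Dvd.intro_left 2 rfl)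
      have h2 : 2 ∣ ((2 ^ k) ^ (2 ^ m) - 1) / (2 ^ k - 1) := (Dvd.intro s hx.symm).trans h1
      have h3 : ((2 ^ k) ^ (2 ^ m) - 1) / (2 ^ k - 1) ∣ (2 ^ k) ^ (2 ^ m) - 1 := by
        have := Nat.sub_dvd_pow_sub_pow (2 ^ k) 1 (2 ^ m)
        rw [one_pow] at this
        exact Nat.div_dvd_of_dvd this
      have h4 : 2 ∣ (2 ^ k) ^ (2 ^ m) := dvd_pow (dvd_pow_self 2 (by omega)) (by positivity)
      have h5 := h2.trans h3
      have h6 : 1 ≤ (2 ^ k) ^ (2 ^ m) := Nat.one_le_pow _ _ (by omega)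
      omega⟩
  have hωQ : ∀ x : G ⧸ K, ∃ y : PL m F, orderOf y = orderOf x := by
    intro x
    obtain ⟨g, hg⟩ := exists_lift K x
    rw [← hg]
    exact hω' g
  obtain ⟨e⟩ := hid K S hred hshyp (fun s => by
    obtain ⟨y, hy⟩ := hωQ (s : G ⧸ K)
    exact ⟨y, by rw [hy, Subgroup.orderOf_coe]⟩)
  have htop := almost hF hm S e hred.cent hωQ
  subst htop
  let f : PL m F ≃* G ⧸ K := e.symm.trans Subgroup.topEquiv
  by_cases hK0 : K = ⊥
  · subst hK0
    exact ⟨(QuotientGroup.quotientBot (G := G)).symm.trans f.symm⟩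
  · exfalso
    obtain ⟨N, hN, hNK, hVne, hVc, p, hp, -, hVp⟩ := Cfsg.Agent.H371.CoverTwo.exists_chief K hred.solv hK0
    have hVn : (K.map (QuotientGroup.mk' N)).Normal :=
      Subgroup.Normal.map inferInstance _ (QuotientGroup.mk'_surjective N)
    let f' : PL m F ≃* (G ⧸ N) ⧸ K.map (QuotientGroup.mk' N) :=
      f.trans (QuotientGroup.quotientQuotientEquivQuotient N K hNK).symm
    have hsimple : IsSimpleGroup (↥(⊤ : Subgroup (G ⧸ K))) := hred.simple
    have hs1 : IsSimpleGroup (PL m F) := (MulEquiv.isSimpleGroup_congr e).1 hsimple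
    have hs2 : IsSimpleGroup ((G ⧸ N) ⧸ K.map (QuotientGroup.mk' N)) := (MulEquiv.isSimpleGroup_congr f').1 hs1
    refine cover hF hm (K.map (QuotientGroup.mk' N)) hp
      ⟨⟨fun a b => Subtype.ext (hVc a a.2 b b.2)⟩⟩ hVp hVne f'.symm ?_
    intro x
    obtain ⟨g, hg⟩ := exists_lift N x
    obtain ⟨y, hy⟩ := hω' g
    exact ⟨y, by rw [hy, hg]⟩

end Cfsg.Agent.H361.AsmT29
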