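import Mathlib

/-!
# Groups with the commuting graph of a group with a self-centralising element of prime order

`card_eq`, `card_centralizer_eq`: the commuting graph determines the order of the group and the orders
of the centralisers.  `modEq`, `eq_top`: a finite group of order `p m` (`p` prime, `p ∤ m`) with an
element whose centraliser has order `p`: Sylow subgroups of normal `p'`-subgroups have order `≡ 1`
modulo `p`, and, if the normaliser of a Sylow `p`-subgroup has order `p e` with `e` prime and there
are no nontrivial normal `p'`-subgroups, the group has no proper normal subgroup of order divisible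
by `p`.
-/

set_option autoImplicit false

namespace Cfsg.Agent.H361.CommGraph

open Subgroup

section Graph

variable {H G : Type*} [Group H] [Group G] [Finite H] [Finite G]
  (f : {h : H // h ≠ 1} ≃ {g : G // g ≠ 1})

theorem nontriv_eq (X : Type*) [Group X] [Finite X] : Nat.card X = Nat.card {x : X // x ≠ 1} + 1 := by
  classical
  have := Fintype.ofFinite X
  rw [Nat.card_eq_fintype_card, Nat.card_eq_fintype_card, Fintype.card_subtype_compl,
    Fintype.card_subtype_eq]
  have : 0 < Fintype.card X := Fintype.card_pos
  omega

include f in
theorem card_eq : Nat.card H = Nat.card G := by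
  rw [nontriv_eq H, nontriv_eq G, Nat.card_congr f]

theorem centralizer_card (X : Type*) [Group X] [Finite X] (x : {x : X // x ≠ 1}) :
    Nat.card (centralizer ({(x : X)} : Set X)) =
      Nat.card {y : {x : X // x ≠ 1} // (x : X) * y = y * x} + 1 := by
  rw [nontriv_eq (centralizer ({(x : X)} : Set X))]
  congr 1
  refine Nat.card_congr
    { toFun := fun y => ⟨⟨(y.1 : X), fun h => y.2 (Subtype.ext h)⟩,
        ?_⟩
      invFun := fun y => ⟨⟨(y.1 : X), ?_⟩, fun h => y.1.2 (congrArg Subtype.val h)⟩
      left_inv := fun y => rfl
      right_inv := fun y => rfl }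
  · exact (mem_centralizer_singleton_iff.1 y.1.2).symm
  · exact mem_centralizer_singleton_iff.2 y.2.symm

theorem card_centralizer_eq
    (hf : ∀ x y : {h : H // h ≠ 1}, (x : H) * y = y * x ↔ ((f x) : G) * (f y) = (f y) * (f x))
    (x : {h : H // h ≠ 1}) :
    Nat.card (centralizer ({(x : H)} : Set H)) = Nat.card (centralizer ({(f x : G)} : Set G)) := by
  rw [centralizer_card H x, centralizer_card G (f x)]
  congr 1
  refine Nat.card_congr (f.subtypeEquiv fun y => ?_)
  exact hf x y

end Graph

end Cfsg.Agent.H361.CommGraph
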