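import Cfsg.Agent.SplitTwo.ExcD
import Cfsg.Agent.SplitTwo.N168

/-!
The fixed structure of an exceptional element in rank two.

`F : Fam Δ G` over a building of type `I₂(m)`, `u ∈ F.U c` fixes a chamber opposite `c`, the panels of type
`j` are regular: then `m` is even and the number of chambers of the fixed structure is bounded by the
number of chambers at distance `m / 2`.
-/

set_option autoImplicit false
set_option linter.unusedSectionVars false

namespace Cfsg.Agent.H361.FixPoly

open Cfsg.Agent.Tits.Core Cfsg.Agent.Tits.Core.Bldg Cfsg.Agent.SplitTwo Cfsg.Agent.SplitTwo.Exc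
open Cfsg.Agent.Tits.Exchange Cfsg.Agent.SplitTwo.DihPath

variable {I : Type*} {M : CoxeterMatrix I} {W : Type*} [Group W] {cs : CoxeterSystem M W}
variable {C : Type*} {Δ : Bldg cs C} {G : Type*} [Group G] [MulAction G C]

local notation "ℓ" => cs.length

/-- Step of the opposite chamber. -/
theorem opp_step [Finite W] {a b y : C} {k : I} (hab : Δ.δ a b = cs.simple k) (h : Δ.Opp a y) :
    ∃ e, Δ.δ a e = w0 cs * cs.simple (op cs k) ∧ Δ.δ e y = cs.simple (op cs k) ∧ Δ.Opp b e := by
  obtain ⟨e, he1, he2, -⟩ := Cfsg.Agent.Tits.Opp.exists_nonopp Δ h (op cs k)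
  refine ⟨e, he2, Δ.δ_symm_simple he1, ?_⟩
  have h1 := Δ.δ_symm_simple hab
  have h2 : Δ.δ a e = cs.simple k * w0 cs := by rw [he2, w0_mul_simple_op]
  have h3 := length_mul_w0 cs (cs.simple k)
  rw [cs.length_simple] at h3
  have h4 := Δ.step_lt_left (z := e) h1 (by
    rw [h2, cs.simple_mul_simple_cancel_left]
    omega)
  rw [h2, cs.simple_mul_simple_cancel_left] at h4
  exact h4

/-- Every fixed chamber has a fixed opposite chamber. -/
theorem exists_opp_fix [Finite W] (F : Fam Δ G) {c d : C} {u : G} (hu : u ∈ F.U c) (hd : u • d = d)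
    (h : Δ.Opp c d) {x : C} (hx : u • x = x) : u ∈ F.U x ∧ ∃ y, Δ.Opp x y ∧ u • y = y := by
  refine F.walk (P := fun x => ∃ y, Δ.Opp x y ∧ u • y = y) hu hx ⟨d, h, hd⟩ ?_
  rintro a b k hab hua hub ⟨y, hy, huy⟩
  obtain ⟨e, he1, he2, he3⟩ := opp_step hab hy
  refine ⟨e, he3, F.fix_between (F.fix a u hua) huy ?_⟩
  rw [he1, he2, cs.simple_mul_simple_cancel_right, cs.length_simple]
  have h3 := length_w0_mul cs (cs.simple (op cs k))
  rw [cs.length_simple] at h3
  omega

/-- The data. -/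
structure Dl (F : Fam Δ G) (i j : I) (u : G) (c d : C) : Prop where
  faith : ∀ g : G, (∀ x : C, g • x = x) → g = 1
  hI : ∀ k, k = i ∨ k = j
  reg : ∀ c e, Δ.δ c e = cs.simple j → ∀ v ∈ F.U c, v • e = e → ∀ x ∈ Δ.Pan j c, v • x = x
  mem : u ∈ F.U c
  fix : u • d = d
  opp : Δ.Opp c d
  ne : u ≠ 1

namespace Dl

variable [Finite W] {F : Fam Δ G} {i j : I} {u : G} {c d : C} (D : Dl F i j u c d)

include D

theorem mem' {x : C} (hx : u • x = x) : u ∈ F.U x := (exists_opp_fix F D.mem D.fix D.opp hx).1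

theorem fix_j {x : C} (hx : u • x = x) {y : C} (hy : y ∈ Δ.Pan j x) : u • y = y := by
  have := finI D.hI
  obtain ⟨hu, z, hz, huz⟩ := exists_opp_fix F D.mem D.fix D.opp hx
  obtain ⟨e, he, hue⟩ := ExcD.exists_fix F hz hx huz j
  exact D.reg x e he u hu hue y hy

theorem move_i {x : C} (hx : u • x = x) : ∃ y, Δ.δ x y = cs.simple i ∧ u • y ≠ y := by
  have := finI D.hI
  obtain ⟨hu, z, hz, huz⟩ := exists_opp_fix F D.mem D.fix D.opp hx
  by_contra hcon
  push Not at hcon
  apply D.ne
  refine ExcD.eq_one_of_pan F D.faith hz huz fun k y hy => ?_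
  rcases D.hI k with rfl | rfl
  · rcases hy with rfl | hy
    · exact hx
    · exact hcon y hy
  · exact D.fix_j hx hy

theorem two_i {x : C} (hx : u • x = x) : ∃ e e', Δ.δ x e = cs.simple i ∧ Δ.δ x e' = cs.simple i ∧
    e ≠ e' ∧ u • e = e ∧ u • e' = e' := by
  have := finI D.hI
  obtain ⟨hu, z, hz, huz⟩ := exists_opp_fix F D.mem D.fix D.opp hx
  obtain ⟨e, he, hue⟩ := ExcD.exists_fix F hz hx huz i
  obtain ⟨y, hy, huy⟩ := D.move_i hx
  obtain ⟨e', he', hx', hee, hue'⟩ := (F.three x e i he u hu hue ⟨y, Or.inr hy, huy⟩).1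
  exact ⟨e, e', he, he'.resolve_left hx', hee.symm, hue, hue'⟩

/-- A moved chamber of the `i`-panel of `x` is opposite to the fixed chambers opposite `x`. -/
theorem opp_of_move {x e y : C} (hx : u • x = x) (he : Δ.δ x e = cs.simple i) (hue : u • e ≠ e)
    (hy : u • y = y) (hxy : Δ.Opp x y) : Δ.Opp e y := by
  have := finI D.hI
  have h1 : Δ.δ x y = cs.simple i * (cs.simple i * w0 cs) := by
    rw [cs.simple_mul_simple_cancel_left]
    exact hxy
  have h2 := length_mul_w0 cs (cs.simple i)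
  rw [cs.length_simple] at h2
  have h3 : ℓ (cs.simple i * (cs.simple i * w0 cs)) =
      ℓ (cs.simple i) + ℓ (cs.simple i * w0 cs) := by
    rw [cs.simple_mul_simple_cancel_left, cs.length_simple]
    omega
  obtain ⟨e0, he1, he2⟩ := Δ.exists_between h1 h3
  have hf : u • e0 = e0 := F.fix_between hx hy (by rw [he1, he2, h3])
  have hne : e ≠ e0 := fun h => hue (by rw [h, hf])
  have h4 : Δ.δ e e0 = cs.simple i :=
    Δ.δ_eq_of_mem_Pan (x := x) (Or.inr he) (Or.inr he1) hne
  have h5 := Δ.step_lt_left (z := y) h4 (by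
    rw [he2, cs.simple_mul_simple_cancel_left]
    omega)
  rw [he2, cs.simple_mul_simple_cancel_left] at h5
  exact h5

/-- `m` is not odd. -/
theorem not_odd {m : ℕ} (hm : M i j = m) : ¬ Odd m := by
  intro hodd
  have := finI D.hI
  obtain ⟨e, hce, hue⟩ := D.move_i (F.fix c u D.mem)
  -- `w₀ s_j = s_i w₀`
  have hk : w0 cs * cs.simple j = cs.simple i * w0 cs := by
    have h0 := w_add_m cs D.hI hm 0
    have h1 := w_add_m cs D.hI hm 1
    have h2 := w_succ (a := i) (b := j) cs (m : ℤ)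
    rw [ty, if_neg (by rw [Int.not_even_iff_odd]; exact_mod_cast hodd)] at h2
    rw [zero_add, w_zero, one_mul] at h0
    have h3 : w cs i j 1 = cs.simple i := by
      have := w_succ (a := i) (b := j) cs 0
      rwa [w_zero, one_mul, zero_add, ty, if_pos (by decide)] at this
    rw [h0] at h2
    rw [← h2, ← h3, ← h1, add_comm]
  have h1 := D.opp_of_move (F.fix c u D.mem) hce hue D.fix D.opp
  obtain ⟨y, hy1, hy2, -⟩ := Cfsg.Agent.Tits.Opp.exists_nonopp Δ h1 j
  have huy : u • y = y := D.fix_j D.fix (Or.inr hy1)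
  rw [hk] at hy2
  apply hue
  refine F.fix_between (F.fix c u D.mem) huy ?_
  rw [hce, hy2, cs.simple_mul_simple_cancel_left, cs.length_simple]
  have h2 := length_mul_w0 cs (cs.simple i)
  rw [cs.length_simple] at h2
  omega

/-- The number of fixed chambers at distance `w_k`. -/
theorem card_fix [Finite C] {t : ℕ} (ht : ∀ x, t ≤ Nat.card {y // Δ.δ x y = cs.simple j}) {m : ℕ}
    (hm : M j i = m) {q : I → ℕ} (hqi : q i = 2) (hqj : q j = t) (k : ℕ) (hk : k ≤ m) :
    ∏ n ∈ Finset.range k, q (ty j i n) ≤ Nat.card {x // Δ.δ c x = w cs j i k ∧ u • x = x} := by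
  have hI' : ∀ k, k = j ∨ k = i := fun k => (D.hI k).symm
  induction k with
  | zero =>
    rw [Finset.prod_range_zero]
    have h0 : w cs j i ((0 : ℕ) : ℤ) = 1 := w_zero cs j i
    have : Nonempty {x // Δ.δ c x = w cs j i ((0 : ℕ) : ℤ) ∧ u • x = x} :=
      ⟨⟨c, by rw [h0, Δ.δ_self], F.fix c u D.mem⟩⟩
    exact Nat.card_pos
  | succ k ih =>
    have h1 : w cs j i ((k + 1 : ℕ) : ℤ) = w cs j i k * cs.simple (ty j i k) := by
      push_cast
      exact w_succ cs (k : ℤ)
    have h2 := length_w cs hI' hm (j := (k : ℤ)) (by simp; omega)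
    have h3 := length_w cs hI' hm (j := ((k + 1 : ℕ) : ℤ)) (by rw [Int.natAbs_natCast]; exact hk)
    rw [h1, Int.natAbs_natCast] at h3
    rw [Int.natAbs_natCast] at h2
    -- the fixed chambers in the panel of a fixed chamber
    have h4 : ∀ x, u • x = x → ∀ s, q s ≤ Nat.card {y // Δ.δ x y = cs.simple s ∧ u • y = y} := by
      intro x hx s
      rcases D.hI s with rfl | rfl
      · obtain ⟨e, e', he, he', hne, hue, hue'⟩ := D.two_i hx
        rw [hqi]
        have : ({⟨e, he, hue⟩, ⟨e', he', hue'⟩} :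
            Set {y // Δ.δ x y = cs.simple s ∧ u • y = y}).ncard = 2 := by
          rw [Set.ncard_pair]
          intro h
          exact hne (congrArg Subtype.val h)
        rw [← this]
        have h5 := Set.ncard_le_ncard (Set.subset_univ ({⟨e, he, hue⟩, ⟨e', he', hue'⟩} :
            Set {y // Δ.δ x y = cs.simple s ∧ u • y = y})) (Set.toFinite _)
        rwa [Set.ncard_univ] at h5
      · rw [hqj]
        refine (ht x).trans (Nat.card_le_card_of_injective (fun y => ⟨y.1, y.2, D.fix_j hx (Or.inr y.2)⟩) ?_)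
        intro y y' h
        exact Subtype.ext (congrArg (fun z : {y // Δ.δ x y = cs.simple s ∧ u • y = y} => z.1) h)
    rw [Finset.prod_range_succ]
    refine (Nat.mul_le_mul_right _ (ih (by omega))).trans ?_
    let A := {x // Δ.δ c x = w cs j i k ∧ u • x = x}
    let B := {x // Δ.δ c x = w cs j i ((k + 1 : ℕ) : ℤ) ∧ u • x = x}
    let f : (Σ x : A, {y // Δ.δ x.1 y = cs.simple (ty j i k) ∧ u • y = y}) → B := fun p =>
      ⟨p.2.1, h1 ▸ Δ.δ_mul_of p.1.2.1 p.2.2.1 (by rw [h3, h2, cs.length_simple]), p.2.2.2⟩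
    have hf : Function.Injective f := by
      rintro ⟨⟨x, hx1, hx2⟩, ⟨y, hy1, hy2⟩⟩ ⟨⟨x', hx1', hx2'⟩, ⟨y', hy1', hy2'⟩⟩ h
      have hyy : y = y' := congrArg (fun z : B => z.1) h
      subst hyy
      have hxx : x = x' := by
        refine Δ.between_unique (v := w cs j i k) (w := cs.simple (ty j i k)) ?_ hx1 hy1 hx1' hy1'
        rw [h3, h2, cs.length_simple]
      subst hxx
      rfl
    have hcard := Nat.card_le_card_of_injective f hf
    refine le_trans ?_ hcard
    classical
    have := Fintype.ofFinite A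
    have : ∀ x : A, Finite {y // Δ.δ x.1 y = cs.simple (ty j i k) ∧ u • y = y} := fun x => inferInstance
    rw [Nat.card_sigma]
    have h7 : Nat.card A * q (ty j i k) = ∑ _x : A, q (ty j i k) := by
      rw [Finset.sum_const, Finset.card_univ, Nat.card_eq_fintype_card, smul_eq_mul]
    rw [h7]
    exact Finset.sum_le_sum fun x _ => h4 x.1 x.2.2 _

/-- The reflection fixing a panel. -/
theorem length_refl {m : ℕ} (hm : M j i = m) (hme : Even m) {h : ℕ} (h1 : h + 1 ≤ m) (h2 : m ≤ 2 * h) :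
    ℓ (((w cs j i h)⁻¹ * w cs j i (m - 1)) * (cs.simple i * ((w cs j i h)⁻¹ * w cs j i (m - 1))⁻¹)) =
      ℓ ((w cs j i h)⁻¹ * w cs j i (m - 1)) +
      ℓ (cs.simple i * ((w cs j i h)⁻¹ * w cs j i (m - 1))⁻¹) := by
  have hI' : ∀ k, k = j ∨ k = i := fun k => (D.hI k).symm
  have e : ((m : ℤ) - 1) = (h : ℤ) + ((m : ℤ) - 1 - h) := by ring
  have hodd : Odd ((m : ℤ) - 1) := by
    obtain ⟨l, hl⟩ := hme
    exact ⟨l - 1, by rw [hl]; push_cast; ring⟩
  rw [e, w_inv_mul]
  by_cases hh : Even (h : ℤ)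
  · rw [if_pos hh]
    set k : ℤ := (m : ℤ) - 1 - h with hk
    have hk0 : 0 ≤ k := by omega
    have hkodd : Odd k := hodd.sub_even hh
    have h3 : w cs j i k * cs.simple i = w cs j i (k + 1) := by
      rw [w_succ, ty, if_neg (Int.not_even_iff_odd.2 hkodd)]
    have h4 : cs.simple i * (w cs j i k)⁻¹ = (w cs j i (k + 1))⁻¹ := by
      rw [← h3, mul_inv_rev, cs.inv_simple]
    have h5 := w_refl cs (a := j) (b := i) (k + 1) 0
    rw [w_zero, mul_one, add_sub_cancel_right] at h5
    rw [h4, h5, cs.length_inv, length_w cs hI' hm (by omega), length_w cs hI' hm (by omega),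
      length_w cs hI' hm (by omega)]
    omega
  · rw [if_neg hh]
    set k : ℤ := (m : ℤ) - 1 - h with hk
    have hk0 : 0 ≤ k := by omega
    have hke : Even k := by
      rw [Int.not_even_iff_odd] at hh
      exact hodd.sub_odd hh
    have h3 : w cs j i (-k) * cs.simple i = w cs j i (-k - 1) := by
      rw [w_pred, ty, if_neg]
      rw [Int.not_even_iff_odd]
      exact hke.neg.sub_odd odd_one
    have h4 : cs.simple i * (w cs j i (-k))⁻¹ = (w cs j i (-k - 1))⁻¹ := by
      rw [← h3, mul_inv_rev, cs.inv_simple]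
    have h5 := w_refl cs (a := j) (b := i) (-k) 0
    rw [w_zero, mul_one] at h5
    have h6 : w cs j i (-k) * (w cs j i (-k - 1))⁻¹ = (w cs j i (2 * -k - 1 - 0))⁻¹ := by
      rw [← h5, mul_inv_rev, inv_inv]
    rw [h4, h6, cs.length_inv, cs.length_inv, length_w cs hI' hm (by omega),
      length_w cs hI' hm (by omega), length_w cs hI' hm (by omega)]
    omega

/-- The bound. -/
theorem card_le [Finite C] {m : ℕ} (hm : M j i = m) (hme : Even m) {h : ℕ} (h1 : h + 1 ≤ m)
    (h2 : m ≤ 2 * h) {e : C} (he : Δ.δ c e = cs.simple i) (hue : u • e ≠ e) :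
    Nat.card {x // Δ.δ c x = w cs j i (m - 1) ∧ u • x = x} ≤
      Nat.card {z // Δ.δ e z = w cs j i h} := by
  have hI' : ∀ k, k = j ∨ k = i := fun k => (D.hI k).symm
  have hodd : Odd ((m : ℤ) - 1) := by
    obtain ⟨l, hl⟩ := hme
    exact ⟨l - 1, by rw [hl]; push_cast; ring⟩
  have hw1 : w cs j i (m - 1) * cs.simple i = w0 cs := by
    have h3 := w_succ cs (a := j) (b := i) ((m : ℤ) - 1)
    rw [ty, if_neg (Int.not_even_iff_odd.2 hodd), sub_add_cancel] at h3
    rw [← h3]
    have h0 := w_add_m cs hI' hm 0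
    rwa [zero_add, w_zero, one_mul] at h0
  have hw2 : cs.simple i * w cs j i (m - 1) = w0 cs := by
    have h3 := length_w0 cs hI' hm
    apply eq_w0_of_length
    have h4 : cs.simple i * w cs j i (m - 1) = cs.simple i * (w0 cs * cs.simple i) := by
      rw [← hw1, cs.simple_mul_simple_cancel_right]
    have h5 : cs.simple i = w cs j i (-1) := by
      have := w_pred cs (a := j) (b := i) 0
      rw [w_zero, one_mul, ty, if_neg (by decide)] at this
      rw [zero_sub] at this
      exact this.symm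
    have h6 := w_inv_mul cs (a := j) (b := i) (-1) m
    rw [if_neg (by decide), ← h5, cs.inv_simple] at h6
    have h7 : (-1 : ℤ) + m = m - 1 := by ring
    rw [h7] at h6
    rw [h6, length_w cs hI' hm (by simp), h3]
    simp
  have hwl : ℓ (w cs j i (m - 1)) = m - 1 := by
    rw [length_w cs hI' hm (by omega)]
    omega
  have hm1 : 1 ≤ m := by omega
  have hv : w cs j i h * ((w cs j i h)⁻¹ * w cs j i (m - 1)) = w cs j i (m - 1) :=
    mul_inv_cancel_left _ _
  have hvl : ℓ (w cs j i h * ((w cs j i h)⁻¹ * w cs j i (m - 1))) =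
      ℓ (w cs j i h) + ℓ ((w cs j i h)⁻¹ * w cs j i (m - 1)) := by
    have e1 : ((m : ℤ) - 1) = (h : ℤ) + ((m : ℤ) - 1 - h) := by ring
    rw [hv, hwl, length_w cs hI' hm (by simp; omega), e1,
      length_delta cs hI' hm (h : ℤ) (by omega)]
    simp
    omega
  set v := (w cs j i h)⁻¹ * w cs j i (m - 1) with hvdef
  have hec := Δ.δ_symm_simple he
  -- the chamber
  have key : ∀ x : {x // Δ.δ c x = w cs j i (m - 1) ∧ u • x = x}, ∃ z y : C,
      Δ.δ e z = w cs j i h ∧ Δ.δ z y = v ∧ Δ.δ y x = cs.simple i ∧ Δ.δ e y = w cs j i (m - 1) := by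
    rintro ⟨x, hx, hux⟩
    have h3 : Δ.Opp e x := by
      have h4 := Δ.step_lt_left (z := x) hec (by
        rw [hx, hw2, hwl, length_w0 cs hI' hm]
        omega)
      rw [hx, hw2] at h4
      exact h4
    obtain ⟨y, hy1, hy2, -⟩ := Cfsg.Agent.Tits.Opp.exists_nonopp Δ h3 i
    have hy3 : Δ.δ e y = w cs j i (m - 1) := by
      rw [hy2, ← hw1, cs.simple_mul_simple_cancel_right]
    obtain ⟨z, hz1, hz2⟩ := Δ.exists_between (hy3.trans hv.symm) hvl
    exact ⟨z, y, hz1, hz2, Δ.δ_symm_simple hy1, hy3⟩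
  choose z y hz1 hz2 hy1 hy2 using key
  refine Nat.card_le_card_of_injective (fun x => (⟨z x, hz1 x⟩ : {z // Δ.δ e z = w cs j i h})) ?_
  -- the properties of `y x`
  have hcy : ∀ x, Δ.δ c (y x) = w0 cs := by
    intro x
    have h4 := Δ.step_lt_left (z := y x) he (by
      rw [hy2, hw2, hwl, length_w0 cs hI' hm]
      omega)
    rw [hy2, hw2] at h4
    exact h4
  have huy : ∀ x, u • y x ≠ y x := by
    intro x hf
    apply hue
    refine F.fix_between (F.fix c u D.mem) hf ?_
    rw [he, hy2, hw2, hwl, length_w0 cs hI' hm, cs.length_simple]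
    omega
  have hyu : ∀ x, Δ.δ (y x) (u • y x) = cs.simple i := by
    intro x
    have h4 : Δ.δ x (y x) = cs.simple i := Δ.δ_symm_simple (hy1 x)
    have h5 : Δ.δ x (u • y x) = cs.simple i := by
      have := F.iso u x (y x)
      rw [x.2.2] at this
      rw [this, h4]
    exact Δ.δ_eq_of_mem_Pan (x := (x : C)) (Or.inr h4) (Or.inr h5) (huy x).symm
  have hyz : ∀ x, Δ.δ (u • y x) (u • z x) = v⁻¹ := by
    intro x
    rw [F.iso, Δ.symm, hz2]
  have hl2 := D.length_refl hm hme h1 h2
  rw [← hvdef] at hl2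
  have hl3 : ℓ (cs.simple i * v⁻¹) = ℓ (cs.simple i) + ℓ v⁻¹ := by
    have h3 := cs.length_mul_le v (cs.simple i * v⁻¹)
    have h4 := cs.length_mul_le (cs.simple i) v⁻¹
    -- `v s v⁻¹` has length `2 ℓ v + 1`
    have h5 : ℓ (v * cs.simple i) = ℓ v + 1 := by
      have h6 : ℓ (w cs j i h * (v * cs.simple i)) = m := by
        rw [← mul_assoc, hv, hw1, length_w0 cs hI' hm]
      have h7 := cs.length_mul_le (w cs j i h) (v * cs.simple i)
      have h8 := cs.length_mul_simple v i
      rw [hv, hwl] at hvl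
      omega
    have h6 := cs.length_inv (v * cs.simple i)
    rw [mul_inv_rev, cs.inv_simple] at h6
    rw [h6, h5, cs.length_simple, cs.length_inv]
    omega
  intro x x' hxx
  have hzz : z x = z x' := congrArg Subtype.val hxx
  have hyy : y x = y x' := by
    refine Δ.between_unique (x := z x) (z := u • z x) hl2 (hz2 x) ?_ ?_ ?_
    · exact Δ.δ_mul_of (hyu x) (hyz x) hl3
    · rw [hzz]
      exact hz2 x'
    · rw [hzz]
      exact Δ.δ_mul_of (hyu x') (hyz x') hl3
  apply Subtype.ext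
  refine Δ.between_unique (x := c) (z := y x) (v := w cs j i (m - 1)) (w := cs.simple i) ?_
    x.2.1 (Δ.δ_symm_simple (hy1 x)) x'.2.1 ?_
  · rw [hw1, hwl, length_w0 cs hI' hm, cs.length_simple]
    omega
  · rw [hyy]
    exact Δ.δ_symm_simple (hy1 x')

end Dl

end Cfsg.Agent.H361.FixPoly
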