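import Cfsg.Agent.H361.AsmT29

/-!
# `PSL_n(q)`, `n = 2 ^ m ≥ 16`, `q = 2 ^ k`: an element of order `q ^ (n / 2) + 1` in the simple section (helper361)

* `exists_big` : element orders all of whose primes are odd and far from `2` are element orders of the section;
* `exists_a`, `far_big` : `L` has elements of order `q ^ (n / 2) + 1`, all its primes are far from `2`.
-/

set_option autoImplicit false

namespace Cfsg.Agent.H361.IdentT29

open Subgroup Cfsg Cfsg.Agent.H414.T29 Cfsg.Agent.H373.Recog Cfsg.Agent.H361.AsmT29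
open Cfsg.Agent.H420.QR (IsCoq SHyp Red)

universe u v

section big

variable {F : Type v} [Field F] [Fintype F] {k m : ℕ} {G : Type u} [Group G] [Finite G]

/-- an element of order `a` of `G`, all primes of `a` odd and far from `2`, gives an element of order `a` of `S` -/
theorem exists_big {K : Subgroup G} [K.Normal] {S : Subgroup (G ⧸ K)} [S.Normal] (hred : Red G K S)
    (halt : ¬ Cfsg.Agent.H414.Rad.AltL2 ↥S) {a : ℕ} (ha : ∀ p : ℕ, p.Prime → p ∣ a → p ≠ 2 ∧ ¬ ∃ x : G, orderOf x = 2 * p)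
    (hx : ∃ x : G, orderOf x = a) : ∃ s : S, orderOf s = a := by
  obtain ⟨g, hg⟩ := hx
  have htwo := hred.two.resolve_left halt
  have hpos : 0 < a := hg ▸ orderOf_pos g
  have key : ∀ p : ℕ, p.Prime → p ∣ a → ¬ p ∣ Nat.card K ∧ ¬ p ∣ S.index := fun p hp hpa => by
    obtain ⟨h1, h2⟩ := ha p hp hpa
    exact (htwo p hp h1 (hpa.trans (hg ▸ orderOf_dvd_natCard g)) h2).2
  have hcK : Nat.Coprime a (Nat.card K) := Nat.coprime_of_dvd fun p hp h1 h2 => (key p hp h1).1 h2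
  have hcS : Nat.Coprime a S.index := Nat.coprime_of_dvd fun p hp h1 h2 => (key p hp h1).2 h2
  have hox : orderOf (g : G ⧸ K) = a := by
    apply Nat.dvd_antisymm
    · rw [← hg]
      exact orderOf_map_dvd (QuotientGroup.mk' K) g
    · have h1 : g ^ orderOf (g : G ⧸ K) ∈ K := by
        rw [← QuotientGroup.eq_one_iff, QuotientGroup.mk_pow, pow_orderOf_eq_one]
      have h2 : (g ^ orderOf (g : G ⧸ K)) ^ Nat.card K = 1 := by
        have := pow_card_eq_one' (x := (⟨_, h1⟩ : K))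
        exact congrArg Subtype.val this
      rw [← pow_mul] at h2
      have h3 := orderOf_dvd_of_pow_eq_one h2
      rw [hg] at h3
      exact hcK.dvd_of_dvd_mul_right h3
  have hmem : (g : G ⧸ K) ∈ S := by
    rw [← QuotientGroup.eq_one_iff, ← orderOf_eq_one_iff]
    have h1 : orderOf (((g : G ⧸ K)) : (G ⧸ K) ⧸ S) ∣ a := by
      rw [← hox]
      exact orderOf_map_dvd (QuotientGroup.mk' S) (g : G ⧸ K)
    have h2 : orderOf (((g : G ⧸ K)) : (G ⧸ K) ⧸ S) ∣ S.index := orderOf_dvd_natCard _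
    exact Nat.eq_one_of_dvd_coprimes hcS h1 h2
  refine ⟨⟨_, hmem⟩, ?_⟩
  rw [← Subgroup.orderOf_coe]
  exact hox

end big

section lside

variable {F : Type v} [Field F] [Fintype F] {k m : ℕ}

theorem ord_of_dvd (hm : 4 ≤ m) {p : ℕ} (hp : p.Prime) (hp2 : p ≠ 2)
    (hd : p ∣ (2 ^ k) ^ (2 ^ (m - 1)) + 1) : orderOf ((2 ^ k : ℕ) : ZMod p) = 2 ^ m := by
  have hfp := Fact.mk hp
  have h1 : (((2 ^ k : ℕ) : ZMod p)) ^ (2 ^ (m - 1)) = -1 := by
    have := (ZMod.natCast_eq_zero_iff _ p).2 hd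
    push_cast at this ⊢
    exact eq_neg_of_add_eq_zero_left this
  have hne : ¬ (((2 ^ k : ℕ) : ZMod p)) ^ (2 ^ (m - 1)) = 1 := by
    rw [h1]
    intro h
    have h2 : ((2 : ℕ) : ZMod p) = 0 := by
      have h3 : (1 : ZMod p) + 1 = 0 := by
        nth_rewrite 1 [← h]
        exact neg_add_cancel 1
      push_cast
      rw [← h3]
      norm_num
    rw [ZMod.natCast_eq_zero_iff] at h2
    exact hp2 ((Nat.prime_dvd_prime_iff_eq hp Nat.prime_two).1 h2)
  have h2 := orderOf_eq_prime_pow (p := 2) (n := m - 1) hne (by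
    rw [pow_succ, pow_mul, h1]
    norm_num)
  rw [h2, Nat.sub_add_cancel (by omega)]

theorem far_big (hF : Fintype.card F = 2 ^ k) (hm : 4 ≤ m) {p : ℕ} (hp : p.Prime)
    (hd : p ∣ (2 ^ k) ^ (2 ^ (m - 1)) + 1) : p ≠ 2 ∧ ¬ ∃ x : PL m F, orderOf x = 2 * p := by
  have hk := one_lt hF
  have hq : 2 ≤ 2 ^ k := Nat.one_lt_two_pow (by omega)
  have hp2 : p ≠ 2 := by
    rintro rfl
    have h4 : 2 ∣ (2 ^ k) ^ (2 ^ (m - 1)) := dvd_pow (dvd_pow_self 2 (by omega)) (by positivity)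
    omega
  refine ⟨hp2, ?_⟩
  rintro ⟨x, hx⟩
  have h1 := top hF (by omega) x hp (ord_of_dvd hm hp hp2 hd) (by rw [hx]; exact Dvd.intro_left 2 rfl)
  have h2 : 2 ∣ ((2 ^ k) ^ (2 ^ m) - 1) / (2 ^ k - 1) := (Dvd.intro p hx.symm).trans h1
  have h3 : ((2 ^ k) ^ (2 ^ m) - 1) / (2 ^ k - 1) ∣ (2 ^ k) ^ (2 ^ m) - 1 := by
    have := Nat.sub_dvd_pow_sub_pow (2 ^ k) 1 (2 ^ m)
    rw [one_pow] at this
    exact Nat.div_dvd_of_dvd this
  have h4 : 2 ∣ (2 ^ k) ^ (2 ^ m) := dvd_pow (dvd_pow_self 2 (by omega)) (by positivity)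
  have h5 := h2.trans h3
  have h6 : 1 ≤ (2 ^ k) ^ (2 ^ m) := Nat.one_le_pow _ _ (by omega)
  omega

theorem exists_a (hF : Fintype.card F = 2 ^ k) (hm : 4 ≤ m) : ∃ x : PL m F, orderOf x = (2 ^ k) ^ (2 ^ (m - 1)) + 1 := by
  have hk := one_lt hF
  have hq : 2 ≤ 2 ^ k := Nat.one_lt_two_pow (by omega)
  have hn : 2 ^ m = 2 ^ (m - 1) * 2 := by rw [← pow_succ, Nat.sub_add_cancel (by omega)]
  have hfac : (2 ^ k) ^ (2 ^ m) - 1 = ((2 ^ k) ^ (2 ^ (m - 1)) + 1) * ((2 ^ k) ^ (2 ^ (m - 1)) - 1) := by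
    have := Nat.sq_sub_sq ((2 ^ k) ^ (2 ^ (m - 1))) 1
    rw [hn, pow_mul]
    simpa using this
  refine exists_orderOf (m := m) hF (by omega) (j := 2 ^ m) Nat.one_le_two_pow le_rfl (by positivity) ?_ ?_
  · apply Nat.coprime_of_dvd
    intro p hp h1 h2
    have h3 : 2 ^ k - 1 ∣ (2 ^ k) ^ (2 ^ (m - 1)) - 1 := by
      have := Nat.sub_dvd_pow_sub_pow (2 ^ k) 1 (2 ^ (m - 1))
      rwa [one_pow] at this
    have h4 := h2.trans h3
    have h5 := (far_big hF hm hp h1).1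
    have h6 : 1 ≤ (2 ^ k) ^ (2 ^ (m - 1)) := Nat.one_le_pow _ _ (by omega)
    have h7 : p ∣ 2 := by
      have := Nat.dvd_sub h1 h4
      rwa [show (2 ^ k) ^ (2 ^ (m - 1)) + 1 - ((2 ^ k) ^ (2 ^ (m - 1)) - 1) = 2 by omega] at this
    exact h5 ((Nat.prime_dvd_prime_iff_eq hp Nat.prime_two).1 h7)
  · rw [hfac]
    exact Dvd.intro _ rfl

end lside

end Cfsg.Agent.H361.IdentT29
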