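import Cfsg.Agent.H361.AsmT29
import Cfsg.Agent.H361.IdentT29
import Cfsg.Agent.H361.Elim16
import Cfsg.Agent.H414.T29.SameChar
import Cfsg.Agent.H414.SpecFrame
import Cfsg.Agent.H343.ExcFar
import Cfsg.Agent.S3585
import Cfsg.Agent.LieClassical.FieldTransfer

/-!
# Recognition of `PSL_16(2 ^ k)` by spectrum (helper361, S3628)
-/

set_option autoImplicit false
set_option linter.unusedSectionVars false

universe u v

namespace Cfsg.Agent.H361.Main16

open Subgroup Cfsg Cfsg.Agent.H414.T29 Cfsg.Agent.OrdDiv Cfsg.Agent.H361.IdentT29 Cfsg.Agent.H361.OddT29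
open Cfsg.Agent.H420.QR (IsCoq SHyp Red)

variable {G : Type u} [Group G] [Finite G] {F : Type v} [Field F] [Fintype F] {k : ℕ}

/-- **The section.** -/
theorem ident (hF : Fintype.card F = 2 ^ k)
    (h : Set.range (orderOf : G → ℕ) = Set.range (orderOf : PL 4 F → ℕ))
    (K : Subgroup G) [K.Normal] (S : Subgroup (G ⧸ K)) [S.Normal] (hR : Red G K S) (hH : SHyp (PL 4 F) ↥S)
    (hsub : ∀ s : S, ∃ l : PL 4 F, orderOf l = orderOf s) : Nonempty (S ≃* PL 4 F) := by
  have hk := one_lt hF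
  have hsimple := hR.simple
  have hA := not_altL2 hF le_rfl hH hsub
  have hlh := lh_of_shyp hF le_rfl hH hA
  have htwo : ¬ ∃ g : S, orderOf g = 2 ^ (4 + 1) := by
    rintro ⟨g, hg⟩
    obtain ⟨y, hy⟩ := hsub g
    exact two_part hF y (by rw [hy, hg])
  -- not alternating
  have halt : ∀ n, ¬ Nonempty (S ≃* alternatingGroup (Fin n)) := by
    rintro n ⟨e⟩
    obtain ⟨X, hX, N, hN, ⟨f⟩⟩ := Cfsg.Agent.H414.SpecFrame.exists_factor S
    have h1 : IsSimpleGroup (X ⧸ N) := (f.isSimpleGroup_congr).2 hsimple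
    refine S3585.result (n := 2 ^ 4) (F := F) (L := PL 4 F) (by norm_num)
      (Or.inl ⟨fun h => by omega, ⟨MulEquiv.refl _⟩⟩) h X hX.isSubnormal N h1 ?_ n ⟨f.trans e⟩
    intro hc
    apply hR.nonab
    have hc' := isMulCommutative_iff.1 hc
    refine isMulCommutative_iff.2 fun x y => ?_
    apply f.symm.injective
    rw [map_mul, map_mul, hc']
  -- the separated primes
  obtain ⟨r, hr⟩ := exists_pp (i := (2 ^ 4 - 1) * k) (by omega)
  obtain ⟨s, hs⟩ := exists_pp (i := 2 ^ 4 * k) (by omega)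
  have hrs := exists_twoSep hF le_rfl hH hsub hr hs
  have key : ∀ N : ℕ, (∃ x : PL 4 F, orderOf x = N) ↔ (∃ y : G, orderOf y = N) := by
    intro N
    have h1 : N ∈ Set.range (orderOf : G → ℕ) ↔ N ∈ Set.range (orderOf : PL 4 F → ℕ) := by rw [h]
    exact h1.symm
  by_cases hE : Cfsg.Agent.H168.ExcCoc.IsExc S
  · -- exceptional groups
    have hpow : (2 ^ k) ^ (2 ^ (4 - 1)) + 1 = 2 ^ (k * 8) + 1 := by rw [← pow_mul]; norm_num
    obtain ⟨g, hg⟩ := exists_big hR hA (a := (2 ^ k) ^ (2 ^ (4 - 1)) + 1) (fun p hp hd => by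
      obtain ⟨h1, h2⟩ := far_big hF le_rfl hp hd
      exact ⟨h1, fun hx => h2 ((key _).2 hx)⟩) ((key _).1 (exists_a hF le_rfl))
    rcases Cfsg.Agent.H343.ExcFar.exc_far hE (j := k * 8) (g := g) (by rw [hg, hpow]) (fun p hp hd => by
      rintro ⟨x, hx⟩
      obtain ⟨h1, h2⟩ := far_big (m := 4) hF le_rfl hp (by rw [hpow]; exact hd)
      exact h2 (hH.adj 2 p Nat.prime_two hp h1.symm ⟨x, hx⟩)) (by omega) with h2 | h2
    · exact same_char hF le_rfl hH hA hsub h2
    · exfalso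
      -- the Tits group
      obtain ⟨w, hw⟩ := exists_pp (i := 16 * k) (by omega)
      have hw71 : 71 < w := Elim16.lt_of_pp hk hw
      have h3 := hlh.h2 w hw
      rw [table_spor S _ (by decide : (Grp.tits, 17971200) ∈ spor) h2] at h3
      have h4 := (Nat.Prime.dvd_factorial hw.prime (n := 71)).1 (h3.trans (spor_dvd .tits (by decide)))
      omega
  · obtain ⟨g, hg⟩ := hR.named
    have hSH : Elim16.SH k S :=
      { lh := hlh
        hyp := exists_hyp hF le_rfl hH hsub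
        sep := ⟨r, s, hrs⟩
        two := htwo
        alt := halt
        exc := by
          rintro p - - (h1 | h1 | ⟨-, h1⟩)
          · obtain ⟨E, i1, i2, _, h1 | h1 | h1 | h1 | h1⟩ := h1
            · exact hE (Or.inl ⟨E, i1, i2, h1.1, h1.2⟩)
            · exact hE (Or.inr (Or.inl ⟨E, i1, i2, h1⟩))
            · exact hE (Or.inr (Or.inr (Or.inl ⟨E, i1, i2, h1⟩)))
            · exact hE (Or.inr (Or.inr (Or.inr (Or.inl ⟨E, i1, i2, h1⟩))))
            · exact hE (Or.inr (Or.inr (Or.inr (Or.inr (Or.inl ⟨E, i1, i2, h1⟩)))))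
          · obtain ⟨E, i1, i2, _, q, hq, h1 | h1⟩ := h1
            · exact hE (Or.inr (Or.inr (Or.inr (Or.inr (Or.inr (Or.inl ⟨E, i1, i2, q, hq, h1.1, h1.2⟩))))))
            · exact hE (Or.inr (Or.inr (Or.inr (Or.inr (Or.inr (Or.inr (Or.inl ⟨E, i1, i2, q, hq, h1.1, h1.2⟩)))))))
          · exact hE (Or.inr (Or.inr (Or.inr (Or.inr (Or.inr (Or.inr (Or.inr (Or.inr (Or.inl h1))))))))) }
    obtain ⟨E, _, _, hE', ⟨e⟩⟩ := hSH.elim hg
    exact ⟨e.trans (LieClassical.FieldTransfer.pslCongr (FiniteField.ringEquivOfCardEq (hE'.trans hF.symm)))⟩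

/-- **S3628** -/
theorem main (hF : Fintype.card F = 2 ^ k)
    (h : Set.range (orderOf : G → ℕ) = Set.range (orderOf : PL 4 F → ℕ)) : Nonempty (G ≃* PL 4 F) :=
  Cfsg.Agent.H361.AsmT29.main_of_ident hF le_rfl h fun K _ S _ hR hH hsub => ident hF h K S hR hH hsub

end Cfsg.Agent.H361.Main16
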