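import Cfsg.Agent.H361.T16Orth
import Cfsg.Agent.H356.TwoSepOrth

/-!
# Elements of order `32` in `PΩ^±_{2m}(u)`, `u` odd, `m ≥ 9` (helper361)

For `m ≥ 10` from `T16OrthElt`; for `m = 9` the correcting plane is `x² + 2 x y + 2 y²` : the product of the reflections in
`(1, 0)` and `(0, 1)` has order `4`, so no power of the corrected isometry with exponent divisible by four is `-1`.
-/

set_option autoImplicit false

namespace Cfsg.Agent.H361.T16

open QuadraticMap Matrix Cfsg Cfsg.Agent.H377 Cfsg.Agent.ClassicalGeometry.Reflection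
  Cfsg.Agent.ClassicalGeometry.OmegaIndex Cfsg.Agent.LieClassical.OrthCore Cfsg.Agent.LieClassical.OrthForms

section corr

variable {F : Type*} [Field F] [Finite F] {ι : Type} [Fintype ι] [DecidableEq ι]

/-- the correcting product of reflections, explicitly -/
theorem exists_corr_cases (h2 : (2 : F) ≠ 0) (Q : QuadraticForm F (ι → F)) (hQ : (polarBilin Q).Nondegenerate)
    (u v : ι → F) (hu0 : Q u ≠ 0) (hv0 : Q v ≠ 0) (hu : IsSquare (Q u)) (hv : ¬ IsSquare (Q v))
    (g : isometryGroup F (⇑Q)) :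
    ∃ R : isometryGroup F (⇑Q), g * R ∈ Omega F (⇑Q) ∧
      (R = 1 ∨ R = reflIso Q u hu0 ∨ R = reflIso Q v hv0 ∨ R = reflIso Q u hu0 * reflIso Q v hv0) := by
  have key : ∀ R : isometryGroup F (⇑Q), Abelianization.of R = (Abelianization.of g)⁻¹ → g * R ∈ Omega F (⇑Q) := by
    intro R hR
    have h1 : Abelianization.of (g * R) = 1 := by rw [map_mul, hR, mul_inv_cancel]
    exact (QuotientGroup.eq_one_iff (g * R)).1 h1
  have hsq : ∀ (w : ι → F) (hw : Q w ≠ 0), (Abelianization.of (reflIso Q w hw))⁻¹ = Abelianization.of (reflIso Q w hw) := by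
    intro w hw
    rw [← map_inv, reflIso_inv]
  rcases abelianization_cases h2 Q hQ one_ne_zero u v hu0 hv0 (by rwa [one_mul]) (by rwa [one_mul])
    (Abelianization.of g) with h | h | h | h
  · exact ⟨1, key 1 (by rw [h, map_one, inv_one]), Or.inl rfl⟩
  · exact ⟨reflIso Q u hu0, key _ (by rw [h, hsq]), Or.inr (Or.inl rfl)⟩
  · exact ⟨reflIso Q v hv0, key _ (by rw [h, hsq]), Or.inr (Or.inr (Or.inl rfl))⟩
  · refine ⟨reflIso Q u hu0 * reflIso Q v hv0, key _ ?_, Or.inr (Or.inr (Or.inr rfl))⟩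
    rw [h, map_mul, mul_inv, hsq, hsq]

/-- **elements of `POmega` from isometries fixing two vectors with `Q u = 1`, `Q v = B (u, v) = 2`, `2` a nonsquare** -/
theorem exists_of_isom_four (h2 : (2 : F) ≠ 0) (hns : ¬ IsSquare (2 : F)) (Q : QuadraticForm F (ι → F)) (hQ : Nondeg Q)
    (h5 : 5 ≤ Fintype.card ι) {V : Type*} [AddCommGroup V] [Module F V] (Q' : QuadraticForm F V) (e : (ι → F) ≃ₗ[F] V)
    (he : ∀ x, Q' (e x) = Q x) (T : Module.End F V) (hT : ∀ v, Q' (T v) = Q' v)
    (u v : V) (hTu : T u = u) (hTv : T v = v) (hu : Q' u = 1) (hv : Q' v = 2) (huv : polar Q' u v = 2)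
    (N : ℕ) (hN1 : ∀ j : ℕ, (∀ x, polar Q' x u = 0 → polar Q' x v = 0 → (T ^ j) x = x) → N ∣ j)
    (hN2 : ∀ j : ℕ, (∀ x, polar Q' x u = 0 → polar Q' x v = 0 → (T ^ j) x = -x) → 4 ∣ j) :
    ∃ g : POmega F ⇑Q, orderOf g = N := by
  classical
  let φ : Module.End F V ≃ₐ[F] Matrix ι ι F := (e.symm.conjAlgEquiv F).trans LinearMap.toMatrixAlgEquiv'
  have hφ : ∀ (S : Module.End F V) (x : ι → F), (φ S).mulVec x = e.symm (S (e x)) := by
    intro S x
    show (LinearMap.toMatrix' (e.symm.conj S)).mulVec x = _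
    rw [LinearMap.toMatrix'_mulVec]
    rfl
  have hM : ∀ x, Q ((φ T).mulVec x) = Q x := by
    intro x
    rw [← he, ← he, hφ, e.apply_symm_apply, hT]
  have hinj : ∀ x, (φ T).mulVec x = 0 → x = 0 := by
    intro x hx
    apply hQ
    intro y
    have h1 : polar Q ((φ T).mulVec x) ((φ T).mulVec y) = polar Q x y := by
      rw [polar, polar, ← Matrix.mulVec_add, hM, hM, hM]
    rw [← h1, hx]
    simp [polar]
  have hunit : IsUnit (φ T) := by
    rw [← Matrix.mulVec_injective_iff_isUnit]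
    intro x y hxy
    have h1 : (φ T).mulVec (x - y) = 0 := by
      rw [Matrix.mulVec_sub]
      exact sub_eq_zero.2 hxy
    exact sub_eq_zero.1 (hinj _ h1)
  obtain ⟨M, hM'⟩ := hunit
  have hmem : M ∈ isometryGroup F ⇑Q := by
    rw [Cfsg.Agent.LieClassical.OrthFinite.mem_isometryGroup_iff]
    intro x
    rw [hM']
    exact hM x
  let g : isometryGroup F ⇑Q := ⟨M, hmem⟩
  have hpol : ∀ x y, polar Q' (e x) (e y) = polar Q x y := by
    intro x y
    rw [polar, polar, ← map_add, he, he, he]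
  obtain ⟨u', rfl⟩ := e.surjective u
  obtain ⟨v', rfl⟩ := e.surjective v
  rw [he] at hu hv
  rw [hpol] at huv
  have hu0 : Q u' ≠ 0 := by rw [hu]; exact one_ne_zero
  have hv0 : Q v' ≠ 0 := by rw [hv]; exact h2
  obtain ⟨R, hR, hcase⟩ := exists_corr_cases h2 Q (nondegenerate_of_nondeg hQ) u' v' hu0 hv0
    (by rw [hu]; exact IsSquare.one) (by rw [hv]; exact hns) g
  have hgx : ∀ x, ((g : Matrix.GeneralLinearGroup ι F) : Matrix ι ι F) *ᵥ x = e.symm (T (e x)) := by
    intro x
    change (M : Matrix ι ι F) *ᵥ x = _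
    rw [hM', hφ]
  have hgu : ((g : Matrix.GeneralLinearGroup ι F) : Matrix ι ι F) *ᵥ u' = u' := by
    rw [hgx, hTu, e.symm_apply_apply]
  have hgv : ((g : Matrix.GeneralLinearGroup ι F) : Matrix ι ι F) *ᵥ v' = v' := by
    rw [hgx, hTv, e.symm_apply_apply]
  -- the two reflections on the plane
  have hvu : polar Q v' u' = 2 := by rw [polar_comm]; exact huv
  have huu : polar Q u' u' = 2 := by rw [H377.polar_self', hu, mul_one]
  have hvv : polar Q v' v' = 4 := by rw [H377.polar_self', hv]; norm_num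
  have r1 : ((reflIso Q u' hu0 : Matrix.GeneralLinearGroup ι F) : Matrix ι ι F) *ᵥ u' = -u' := by
    rw [coe_reflIso]
    rw [reflectionMatrix_mulVec, huu, hu, inv_one, one_mul, two_smul]
    abel
  have r2 : ((reflIso Q u' hu0 : Matrix.GeneralLinearGroup ι F) : Matrix ι ι F) *ᵥ v' = v' - (2 : F) • u' := by
    rw [coe_reflIso, reflectionMatrix_mulVec, huv, hu, inv_one, one_mul]
  have r3 : ((reflIso Q v' hv0 : Matrix.GeneralLinearGroup ι F) : Matrix ι ι F) *ᵥ u' = u' - v' := by
    rw [coe_reflIso, reflectionMatrix_mulVec, hvu, hv, inv_mul_cancel₀ h2, one_smul]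
  have r4 : ((reflIso Q v' hv0 : Matrix.GeneralLinearGroup ι F) : Matrix ι ι F) *ᵥ v' = -v' := by
    rw [coe_reflIso, reflectionMatrix_mulVec, hvv, hv, show (2 : F)⁻¹ * 4 = 2 by field_simp; norm_num, two_smul]
    abel
  have hRx : ∀ x, polar Q x u' = 0 → polar Q x v' = 0 →
      ((R : Matrix.GeneralLinearGroup ι F) : Matrix ι ι F) *ᵥ x = x := by
    intro x hx hx'
    rcases hcase with h | h | h | h
    · rw [h]; exact Matrix.one_mulVec x
    · rw [h]; exact reflIso_fix Q hu0 hx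
    · rw [h]; exact reflIso_fix Q hv0 hx'
    · rw [h, coe_mul_mulVec, reflIso_fix Q hv0 hx', reflIso_fix Q hu0 hx]
  -- the fourth power of the corrected isometry fixes `u'`
  have hfour : (((g * R) ^ 4 : isometryGroup F ⇑Q) : Matrix.GeneralLinearGroup ι F).1 *ᵥ u' = u' := by
    have hp : (((g * R) ^ 4 : isometryGroup F ⇑Q) : Matrix.GeneralLinearGroup ι F).1 *ᵥ u' =
        (((g * R : isometryGroup F ⇑Q) : Matrix.GeneralLinearGroup ι F) : Matrix ι ι F) *ᵥ
        ((((g * R : isometryGroup F ⇑Q) : Matrix.GeneralLinearGroup ι F) : Matrix ι ι F) *ᵥ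
        ((((g * R : isometryGroup F ⇑Q) : Matrix.GeneralLinearGroup ι F) : Matrix ι ι F) *ᵥ
        ((((g * R : isometryGroup F ⇑Q) : Matrix.GeneralLinearGroup ι F) : Matrix ι ι F) *ᵥ u'))) := by
      rw [← coe_mul_mulVec, ← coe_mul_mulVec, ← coe_mul_mulVec, show (g * R) ^ 4 = g * R * (g * R) * (g * R) * (g * R) by
        rw [pow_succ, pow_succ, pow_two]]
    rw [hp]
    rcases hcase with h | h | h | h
    · rw [h, mul_one, hgu, hgu, hgu, hgu]
    · rw [h]
      have h1 : (((g * reflIso Q u' hu0 : isometryGroup F ⇑Q) : Matrix.GeneralLinearGroup ι F) : Matrix ι ι F) *ᵥ u' =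
          -u' := by
        rw [coe_mul_mulVec, r1, Matrix.mulVec_neg, hgu]
      rw [h1, Matrix.mulVec_neg, h1, neg_neg, h1, Matrix.mulVec_neg, h1, neg_neg]
    · rw [h]
      have h1 : (((g * reflIso Q v' hv0 : isometryGroup F ⇑Q) : Matrix.GeneralLinearGroup ι F) : Matrix ι ι F) *ᵥ u' =
          u' - v' := by
        rw [coe_mul_mulVec, r3, Matrix.mulVec_sub, hgu, hgv]
      have h3 : (((g * reflIso Q v' hv0 : isometryGroup F ⇑Q) : Matrix.GeneralLinearGroup ι F) : Matrix ι ι F) *ᵥ v' =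
          -v' := by
        rw [coe_mul_mulVec, r4, Matrix.mulVec_neg, hgv]
      have h4 : (((g * reflIso Q v' hv0 : isometryGroup F ⇑Q) : Matrix.GeneralLinearGroup ι F) : Matrix ι ι F) *ᵥ
          (u' - v') = u' := by
        rw [Matrix.mulVec_sub, h1, h3]
        abel
      rw [h1, h4, h1, h4]
    · rw [h]
      have h1 : (((g * (reflIso Q u' hu0 * reflIso Q v' hv0) : isometryGroup F ⇑Q) : Matrix.GeneralLinearGroup ι F) :
          Matrix ι ι F) *ᵥ u' = u' - v' := by
        rw [coe_mul_mulVec, coe_mul_mulVec, r3, Matrix.mulVec_sub, r1, r2, Matrix.mulVec_sub, Matrix.mulVec_sub,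
          Matrix.mulVec_neg, Matrix.mulVec_smul, hgu, hgv, two_smul]
        abel
      have h3 : (((g * (reflIso Q u' hu0 * reflIso Q v' hv0) : isometryGroup F ⇑Q) : Matrix.GeneralLinearGroup ι F) :
          Matrix ι ι F) *ᵥ v' = (2 : F) • u' - v' := by
        rw [coe_mul_mulVec, coe_mul_mulVec, r4, Matrix.mulVec_neg, Matrix.mulVec_neg, r2, Matrix.mulVec_sub,
          Matrix.mulVec_smul, hgu, hgv]
        abel
      have h4 : (((g * (reflIso Q u' hu0 * reflIso Q v' hv0) : isometryGroup F ⇑Q) : Matrix.GeneralLinearGroup ι F) :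
          Matrix ι ι F) *ᵥ (u' - v') = -u' := by
        rw [Matrix.mulVec_sub, h1, h3, two_smul]
        abel
      rw [h1, h4, Matrix.mulVec_neg, Matrix.mulVec_neg, h1, h4, neg_neg]
  have hpow : ∀ (j : ℕ) (x : ι → F), polar Q' (e x) (e u') = 0 → polar Q' (e x) (e v') = 0 →
      (((g * R) ^ j : isometryGroup F ⇑Q) : Matrix.GeneralLinearGroup ι F).1 *ᵥ x = e.symm ((T ^ j) (e x)) := by
    intro j
    induction j with
    | zero =>
      intro x _ _
      rw [pow_zero, pow_zero]
      change (1 : Matrix ι ι F) *ᵥ x = e.symm (e x)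
      rw [Matrix.one_mulVec, e.symm_apply_apply]
    | succ j ih =>
      intro x hxu hxv
      have h3 : ((R : Matrix.GeneralLinearGroup ι F) : Matrix ι ι F) *ᵥ x = x :=
        hRx x (by rw [← hpol]; exact hxu) (by rw [← hpol]; exact hxv)
      have hTpol : ∀ a b, polar Q' (T a) (T b) = polar Q' a b := by
        intro a b
        rw [polar, polar, ← map_add, hT, hT, hT]
      rw [pow_succ]
      change ((((g * R) ^ j * (g * R) : isometryGroup F ⇑Q) : Matrix.GeneralLinearGroup ι F) : Matrix ι ι F) *ᵥ x = _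
      rw [coe_mul_mulVec, coe_mul_mulVec, h3, hgx]
      have h5 := ih (e.symm (T (e x))) (by rw [e.apply_symm_apply, ← hTu, hTpol]; exact hxu)
        (by rw [e.apply_symm_apply, ← hTv, hTpol]; exact hxv)
      rw [e.apply_symm_apply] at h5
      refine h5.trans ?_
      rw [pow_succ]
      rfl
  let z : Omega F ⇑Q := ⟨g * R, hR⟩
  have hs : ∃ u : ι → F, u ≠ 0 ∧ Q u = 0 := by
    obtain ⟨w, -, h1, h2⟩ := Cfsg.Agent.LieClassical.OrthFinite.exists_sing_mem (Q := Q) (⊤ : Submodule F (ι → F)) (by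
      rw [finrank_top, Module.finrank_fintype_fun_eq_card]
      omega)
    exact ⟨w, h1, h2⟩
  have hdvd : N ∣ orderOf (QuotientGroup.mk z : POmega F ⇑Q) := by
    obtain ⟨j, hj⟩ : ∃ j, j = orderOf (QuotientGroup.mk z : POmega F ⇑Q) := ⟨_, rfl⟩
    rw [← hj]
    have h6 : (QuotientGroup.mk z : POmega F ⇑Q) ^ j = 1 := by rw [hj]; exact pow_orderOf_eq_one _
    rw [← QuotientGroup.mk_pow, QuotientGroup.eq_one_iff,
      Cfsg.Agent.LieClassical.OrthCenter.mem_center_omega_iff (nondegenerate_of_nondeg hQ) (by omega) hs] at h6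
    have h7 : ((((z ^ j : Omega F ⇑Q) : isometryGroup F ⇑Q) : Matrix.GeneralLinearGroup ι F) : Matrix ι ι F) =
        (((g * R) ^ j : isometryGroup F ⇑Q) : Matrix.GeneralLinearGroup ι F).1 := rfl
    rw [h7] at h6
    rcases h6 with h6 | h6
    · apply hN1
      intro x hxu hxv
      have h8 := hpow j (e.symm x) (by rw [e.apply_symm_apply]; exact hxu) (by rw [e.apply_symm_apply]; exact hxv)
      rw [h6, Matrix.one_mulVec, e.apply_symm_apply] at h8
      exact (e.symm.injective h8).symm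
    · exfalso
      obtain ⟨i, hi⟩ : 4 ∣ j := by
        apply hN2
        intro x hxu hxv
        have h8 := hpow j (e.symm x) (by rw [e.apply_symm_apply]; exact hxu) (by rw [e.apply_symm_apply]; exact hxv)
        rw [h6, Matrix.neg_mulVec, Matrix.one_mulVec, e.apply_symm_apply, ← map_neg] at h8
        exact (e.symm.injective h8).symm
      have h9 : ∀ i : ℕ, ((((g * R) ^ 4) ^ i : isometryGroup F ⇑Q) : Matrix.GeneralLinearGroup ι F).1 *ᵥ u' = u' := by
        intro i
        induction i with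
        | zero => rw [pow_zero]; exact Matrix.one_mulVec u'
        | succ i ih =>
          rw [pow_succ]
          have h10 := coe_mul_mulVec (⇑Q) (((g * R) ^ 4) ^ i) ((g * R) ^ 4) u'
          rw [h10, hfour]
          exact ih
      have h11 := h9 i
      rw [← pow_mul, ← hi, h6, Matrix.neg_mulVec, Matrix.one_mulVec] at h11
      have h12 : Q u' = 0 := by
        have h13 : (2 : F) • u' = 0 := by
          rw [two_smul]
          nth_rewrite 1 [← h11]
          exact neg_add_cancel u'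
        have h14 : u' = 0 := (smul_eq_zero.1 h13).resolve_left h2
        rw [h14]
        exact QuadraticMap.map_zero Q
      exact hu0 h12
  exact ⟨_, orderOf_pow_orderOf_div (orderOf_pos _).ne' hdvd⟩

end corr

section nine

variable {F : Type*} [Field F] [Finite F]

/-- the common part -/
theorem nine_aux (h2 : (2 : F) ≠ 0) {b : ℕ} {ε' ε'' : ℤ} {M : ℕ} (hM : 8 ∣ M)
    (h' : Elt F b ε' M) {V : Type*} [AddCommGroup V] [Module F V] [Finite V] (R : QuadraticForm F V) (hR : Nondeg R)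
    (hsR : HasSign (⇑R) 1 ε'') (u v : V) (hu : R u = 1) (hv : R v = 2) (huv : polar R u v = 2) :
    ∃ (Q' : QuadraticForm F ((Fin (2 * b) → F) × V)) (T : Module.End F ((Fin (2 * b) → F) × V))
      (u v : (Fin (2 * b) → F) × V), Nondeg Q' ∧
      HasSign (⇑Q') (b + 1) (ε' * ε'') ∧ (∀ x, Q' (T x) = Q' x) ∧ T u = u ∧ T v = v ∧ Q' u = 1 ∧
      Q' v = 2 ∧ polar Q' u v = 2 ∧
      (∀ j : ℕ, (∀ x, polar Q' x u = 0 → polar Q' x v = 0 → (T ^ j) x = x) → M ∣ j) ∧
      (∀ j : ℕ, (∀ x, polar Q' x u = 0 → polar Q' x v = 0 → (T ^ j) x = -x) → 4 ∣ j) := by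
  classical
  obtain ⟨hN0', P, g', hP, hs2, hg', ho'⟩ := h'
  have hpol : ∀ (y : Fin (2 * b) → F) (w : V), polar (sumQ P R) (y, 0) (0, w) = 0 := by
    intro y w
    simp only [polar, sumQ_apply, Prod.fst_add, Prod.snd_add, add_zero, zero_add, QuadraticMap.map_zero]
    ring
  refine ⟨sumQ P R, g'.prodMap (1 : Module.End F V), (0, u), (0, v), sumQ_nondeg hP hR, hs2.prod hsR,
    ?_, ?_, ?_, ?_, ?_, ?_, ?_, ?_⟩
  · rintro ⟨y, w⟩
    simp only [sumQ_apply, LinearMap.prodMap_apply, hg', Module.End.one_apply]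
  · simp only [LinearMap.prodMap_apply, map_zero, Module.End.one_apply]
  · simp only [LinearMap.prodMap_apply, map_zero, Module.End.one_apply]
  · simp only [sumQ_apply, QuadraticMap.map_zero, zero_add, hu]
  · simp only [sumQ_apply, QuadraticMap.map_zero, zero_add, hv]
  · rw [← huv]
    simp only [polar, sumQ_apply, Prod.fst_add, Prod.snd_add, add_zero, zero_add, QuadraticMap.map_zero]
  · intro j hj
    rw [← ho']
    refine orderOf_dvd_of_pow_eq_one (LinearMap.ext fun y => ?_)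
    have h4 := hj (y, 0) (hpol y u) (hpol y v)
    rw [prodMap_pow_apply] at h4
    exact congrArg Prod.fst h4
  · intro j hj
    have h3 : g' ^ j = -1 := by
      refine LinearMap.ext fun y => ?_
      have h4 := hj (y, 0) (hpol y u) (hpol y v)
      rw [prodMap_pow_apply] at h4
      exact congrArg Prod.fst h4
    have h4 : orderOf g' ∣ j * 2 := by
      apply orderOf_dvd_of_pow_eq_one
      rw [pow_mul, h3, pow_two]
      exact LinearMap.ext fun y => neg_neg y
    rw [ho'] at h4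
    have h5 := hM.trans h4
    omega

theorem elt_thirtytwo (h2 : (2 : F) ≠ 0) : Elt F 8 1 32 := by
  have h1 := H421.OddCoc.two_pow_dvd' (u := Nat.card F) (m := 4) (H72.AdjSp.odd_card_of_two h2) (by norm_num)
  exact elt_tor_plus (by norm_num) (by simpa using h1)

/-- `2` is a nonsquare if `|F| ≡ 3, 5 (mod 8)` -/
theorem two_nonsquare (h : Nat.card F % 8 = 3 ∨ Nat.card F % 8 = 5) : ¬ IsSquare (2 : F) := by
  let _ := Fintype.ofFinite F
  rw [FiniteField.isSquare_two_iff]
  rw [Nat.card_eq_fintype_card] at h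
  omega

/-- **`PΩ⁺_{18}(u)`, `u ≡ 5 (mod 8)`** -/
theorem plus_nine (h8 : Nat.card F % 8 = 5) : ∃ g : POmega F (quadFormPlus 9 F), orderOf g = 32 := by
  let _ := Fintype.ofFinite F
  have hns := two_nonsquare (F := F) (Or.inr h8)
  have h2 : (2 : F) ≠ 0 := by
    intro h
    rw [h] at hns
    exact hns IsSquare.zero
  obtain ⟨i, hi⟩ : IsSquare (-1 : F) := by
    rw [FiniteField.isSquare_neg_one_iff]
    rw [Nat.card_eq_fintype_card] at h8
    omega
  obtain ⟨Q', T, u, v, hQ, hsg, hT, hTu, hTv, hu, hv, huv, hN1, hN2⟩ := nine_aux h2 (by norm_num) (elt_thirtytwo h2)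
    (hypQ F) hypQ_nondeg hasSign_mul ((1 : F), (1 : F)) (1 + i, 1 - i) (by simp [hypQ_apply])
    (by rw [hypQ_apply]; linear_combination hi) (by
      simp only [polar, hypQ_apply, Prod.mk_add_mk]
      ring)
  obtain ⟨e, he⟩ := exists_plus (m := 9) (by omega) (by
    rw [Module.finrank_prod, Module.finrank_prod, Module.finrank_fin_fun, Module.finrank_self]) Q' hQ (by
      rwa [one_mul] at hsg)
  rw [← coe_plusForm]
  refine exists_of_isom_four h2 hns (plusForm 9 F) (nondeg_plusForm 9 F) ?_ Q' e ?_ T hT u v hTu hTv hu hv huv _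
    hN1 hN2
  · rw [Fintype.card_sum, Fintype.card_fin]
    omega
  · intro u
    rw [he, coe_plusForm]

/-- **`PΩ⁻_{18}(u)`, `u ≡ 3 (mod 8)`** -/
theorem minus_nine (h8 : Nat.card F % 8 = 3) {α β : F}
    (hαβ : ∀ z₁ z₂ : F, z₁ ^ 2 + α * z₁ * z₂ + β * z₂ ^ 2 = 0 → z₁ = 0 ∧ z₂ = 0) :
    ∃ g : POmega F (quadFormMinus (9 - 1) F α β), orderOf g = 32 := by
  let _ := Fintype.ofFinite F
  have hns := two_nonsquare (F := F) (Or.inl h8)
  have h2 : (2 : F) ≠ 0 := by
    intro h
    rw [h] at hns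
    exact hns IsSquare.zero
  have hi : ¬ IsSquare (-1 : F) := by
    rw [FiniteField.isSquare_neg_one_iff]
    rw [Nat.card_eq_fintype_card] at h8
    omega
  have hab : ∀ z₁ z₂ : F, z₁ ^ 2 + 2 * z₁ * z₂ + 2 * z₂ ^ 2 = 0 → z₁ = 0 ∧ z₂ = 0 := by
    intro z₁ z₂ h
    have h3 : z₂ = 0 := by
      by_contra h3
      apply hi
      refine ⟨(z₁ + z₂) / z₂, ?_⟩
      field_simp
      linear_combination -h
    subst h3
    refine ⟨?_, rfl⟩
    simpa using h
  obtain ⟨Q', T, u, v, hQ, hsg, hT, hTu, hTv, hu, hv, huv, hN1, hN2⟩ := nine_aux h2 (by norm_num) (elt_thirtytwo h2)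
    (binForm F 2 2) (fun x hx => (binForm_nondegenerate hab).1 x hx) (by rw [coe_binForm]; exact hasSign_bin hab)
    ![1, 0] ![0, 1] (by rw [binForm_apply]; simp [H403.Classify.bin]) (by rw [binForm_apply]; simp [H403.Classify.bin]) (by
      simp only [polar, binForm_apply, H403.Classify.bin]
      simp
      ring)
  obtain ⟨e, he⟩ := exists_minus (m := 9) (by omega) (by
    rw [Module.finrank_prod, Module.finrank_fin_fun, Module.finrank_fin_fun]) Q' hQ (by
      rwa [one_mul] at hsg) hαβ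
  rw [← coe_minusForm]
  refine exists_of_isom_four h2 hns (minusForm (9 - 1) F α β) (nondeg_minusForm (9 - 1) F α β hαβ) ?_ Q' e ?_ T hT
    u v hTu hTv hu hv huv _ hN1 hN2
  · simp only [Fintype.card_sum, Fintype.card_fin]
    omega
  · intro u
    rw [he, coe_minusForm]

end nine

end Cfsg.Agent.H361.T16
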