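import Cfsg.Agent.H361.T16Lin
import Cfsg.Agent.H361.T16Nine

/-!
# Classical groups over fields of odd order with a large coclique (helper361)

`Hyp S C` : `C` is a coclique of the prime graph of `S`, all members are `≥ 5`, no element of order `16 s` (`s ∈ C`), and either
`|C| ≥ 8` or `|C| ≥ 7` and there is no element of order `32`. Together with `TwoSep S r s` (needed for symplectic and
orthogonal groups only) this is impossible for the classical groups over fields of odd order : `Hyp.psl`, `Hyp.psu`, `Hyp.psp`,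
`Hyp.oodd`, `Hyp.oplus`, `Hyp.ominus`, and, for the families of `IsKnownSimple'`, `Hyp.isPSL` ... `Hyp.isPOmegaMinus`.
-/

set_option autoImplicit false

namespace Cfsg.Agent.H361.T16

open Cfsg Cfsg.Agent.H376.Coc Cfsg.Agent.H356 Cfsg.Agent.H377 Cfsg.Agent.H72.AdjOrth Cfsg.Agent.H72.AdjCoc
  Cfsg.Agent.H72.AdjSp

section count

variable {q m : ℕ} {adj : ℕ → ℕ → Prop} {P : ℕ → Prop} {ρ top : Finset ℕ}

/-- `PΩ^±_{10}`, `PΩ^±_{14}` : at most 6 members -/
theorem orth_count_small (hm : m = 5 ∨ m = 7) (hprime : ∀ s ∈ ρ, s.Prime) (h5 : ∀ s ∈ ρ, 5 ≤ s) {p : ℕ}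
    (hqp : ∀ s ∈ ρ, s ∣ q → s = p)
    (hclass : ∀ s ∈ ρ, s ≠ 2 → ¬ s ∣ q → P (ee q s))
    (hcoc : ∀ r ∈ ρ, ∀ s ∈ ρ, r ≠ s → ¬ adj r s)
    (hblk : ∀ r s : ℕ, r.Prime → s.Prime → r ≠ s → wO q r + wO q s + 1 ≤ m → adj r s)
    (hclq : ∀ r s : ℕ, r.Prime → s.Prime → r ≠ 2 → s ≠ 2 → r ≠ s → ¬ r ∣ q → ¬ s ∣ q → ee q r = ee q s →
      P (ee q r) → adj r s)
    (htop : top.card ≤ 1) (hT : ∀ lo k, P k → lo < eta k → k ∈ cl lo (m - 1) ∪ top) : ρ.card ≤ 6 := by
  classical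
  have hcl : ∀ lo, (cl lo (m - 1) ∪ top).card ≤ (m - 1 - lo) + (m / 2 - (lo + 1) / 2) + 1 := by
    intro lo
    have h1 := card_cl_le lo (m - 1)
    have h4 := Finset.card_union_le (cl lo (m - 1)) top
    rw [show m - 1 + 1 = m by omega] at h1
    omega
  have hne2 : ∀ s ∈ ρ, s ≠ 2 := fun s hs h => by have := h5 s hs; omega
  -- all members of weight `> lo ≥ 2`
  have big : ∀ lo, 2 ≤ lo → (∀ s ∈ ρ, lo < wO q s) → ρ.card ≤ (m - 1 - lo) + (m / 2 - (lo + 1) / 2) + 1 := by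
    intro lo hlo hwl
    refine le_trans (card_filter_le hprime hclass hcoc hclq (T := cl lo (m - 1) ∪ top) ρ (Finset.Subset.refl _) ?_ ?_)
      (hcl lo)
    · intro s hs
      refine ⟨hne2 s hs, fun h => ?_⟩
      have h3 : wO q s = 2 := if_pos (Or.inr h)
      have := hwl s hs
      omega
    · intro s hs hP
      apply hT _ _ hP
      have h3 := hwl s hs
      rw [wO] at h3
      split_ifs at h3 with h4
      · omega
      · exact h3
  by_cases hx : ∃ x ∈ ρ, 2 * wO q x + 1 ≤ m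
  · obtain ⟨x, hx, hxm⟩ := hx
    have h6 : 1 ≤ wO q x := by
      have hp := hprime x hx
      rw [wO]
      split_ifs with h
      · omega
      · rw [not_or] at h
        exact eta_pos (ee_pos hp h.2)
    have h3 := coc_bound (c := 1) (T := cl (m - 1 - wO q x) (m - 1) ∪ top) hprime hclass hcoc hblk hclq hx (by omega) (by
      intro k hP hk
      apply hT _ _ hP
      omega)
    have h4 := hcl (m - 1 - wO q x)
    omega
  · push Not at hx
    rcases hm with rfl | rfl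
    · have := big 2 (by omega) (fun s hs => by have := hx s hs; omega)
      omega
    · have := big 3 (by omega) (fun s hs => by have := hx s hs; omega)
      omega

end count

section groups

variable {F : Type*} [Field F] [Finite F] {m : ℕ} {ρ : Finset ℕ}

/-- **`PΩ⁺_{2m}(u)`, `u` odd, `m = 5, 7`** -/
theorem plus_small (hm : m = 5 ∨ m = 7)
    (hρ : ∀ r ∈ ρ, r.Prime ∧ r ∣ Nat.card (POmega F (quadFormPlus m F)))
    (hc : ∀ r ∈ ρ, ∀ s ∈ ρ, r ≠ s → ¬ ∃ z : POmega F (quadFormPlus m F), orderOf z = r * s)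
    (h5 : ∀ s ∈ ρ, 5 ≤ s) : ρ.card ≤ 6 := by
  classical
  let _ := Fintype.ofFinite F
  obtain ⟨p, -, -, hp⟩ := prime_dvd_card F
  have hm4 : 4 ≤ m := by omega
  refine orth_count_small (q := Nat.card F) (adj := fun r s => ∃ z : POmega F (quadFormPlus m F), orderOf z = r * s)
    (P := fun k => eta k < m ∨ (eta k = m ∧ sg k = 1)) (top := topP m) hm (fun s hs => (hρ s hs).1) h5 (p := p)
    (fun s hs h => hp s (hρ s hs).1 h)
    (fun s hs _ hsq => plus_class hm4 (hρ s hs).1 hsq (hρ s hs).2) hc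
    (fun r s hr hs hrs h => plus_adj hm4 hr hs hrs h)
    (fun r s hr hs hr2 hs2 hrs hrq hsq h hk => plus_clq hm4 hr hs hr2 hs2 hrs hrq hsq h hk) ?_ ?_
  · have := card_topP m
    omega
  · intro lo k hk hlo
    rw [Finset.mem_union, mem_cl]
    rcases hk with hk | hk
    · left
      omega
    · exact Or.inr (mem_topP hk.1 hk.2)

/-- **`PΩ⁻_{2m}(u)`, `u` odd, `m = 5, 7`** -/
theorem minus_small (hm : m = 5 ∨ m = 7) {a b : F}
    (hab : ∀ z₁ z₂ : F, z₁ ^ 2 + a * z₁ * z₂ + b * z₂ ^ 2 = 0 → z₁ = 0 ∧ z₂ = 0)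
    (hρ : ∀ r ∈ ρ, r.Prime ∧ r ∣ Nat.card (POmega F (quadFormMinus (m - 1) F a b)))
    (hc : ∀ r ∈ ρ, ∀ s ∈ ρ, r ≠ s → ¬ ∃ z : POmega F (quadFormMinus (m - 1) F a b), orderOf z = r * s)
    (h5 : ∀ s ∈ ρ, 5 ≤ s) : ρ.card ≤ 6 := by
  classical
  let _ := Fintype.ofFinite F
  obtain ⟨p, -, -, hp⟩ := prime_dvd_card F
  have hm4 : 4 ≤ m := by omega
  refine orth_count_small (q := Nat.card F)
    (adj := fun r s => ∃ z : POmega F (quadFormMinus (m - 1) F a b), orderOf z = r * s)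
    (P := fun k => k ≠ 0 → (eta k < m ∨ (eta k = m ∧ sg k = -1))) (top := {2 * m}) hm (fun s hs => (hρ s hs).1) h5 (p := p)
    (fun s hs h => hp s (hρ s hs).1 h)
    (fun s hs hs2 hsq _ => minus_class hm4 hab (hρ s hs).1 hs2 hsq (hρ s hs).2) hc
    (fun r s hr hs hrs h => minus_adj hm4 hab hr hs hrs h)
    (fun r s hr hs hr2 hs2 hrs hrq hsq h hk => minus_clq hm4 hab hr hs hr2 hs2 hrs hrq hsq h
      (hk (by have := ee_pos hr hrq; omega))) ?_ ?_
  · rw [Finset.card_singleton]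
  · intro lo k hk hlo
    rw [Finset.mem_union, mem_cl]
    have hk0 : k ≠ 0 := by
      rintro rfl
      have : eta 0 = 0 := rfl
      omega
    rcases hk hk0 with hk | hk
    · left
      omega
    · exact Or.inr (mem_topM hk.1 hk.2)

/-- **elements of order 32 in `PΩ⁺_{2m}(u)`**, `m ≥ 9` -/
theorem plus_thirtytwo (h2 : (2 : F) ≠ 0) (hm : 9 ≤ m) (h : m = 9 → Nat.card F % 8 = 5) :
    ∃ g : POmega F (quadFormPlus m F), orderOf g = 32 := by
  rcases Nat.lt_or_ge m 10 with h9 | h9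
  · obtain rfl : m = 9 := by omega
    exact plus_nine (h rfl)
  · obtain ⟨g, hg⟩ := plus_blocks h2 (m := m) (by omega) (a := 1) (b := 8) le_rfl (by omega) (Or.inl rfl) (Or.inl rfl)
      odd_one (elt_one 1) (elt_thirtytwo h2)
    exact ⟨g, by rw [hg, Nat.lcm_one_left]⟩

/-- **elements of order 32 in `PΩ⁻_{2m}(u)`**, `m ≥ 9` -/
theorem minus_thirtytwo (h2 : (2 : F) ≠ 0) (hm : 9 ≤ m) (h : m = 9 → Nat.card F % 8 = 3) {a b : F}
    (hab : ∀ z₁ z₂ : F, z₁ ^ 2 + a * z₁ * z₂ + b * z₂ ^ 2 = 0 → z₁ = 0 ∧ z₂ = 0) :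
    ∃ g : POmega F (quadFormMinus (m - 1) F a b), orderOf g = 32 := by
  rcases Nat.lt_or_ge m 10 with h9 | h9
  · obtain rfl : m = 9 := by omega
    exact minus_nine (h rfl) hab
  · obtain ⟨g, hg⟩ := minus_blocks h2 (m := m) (by omega) hab (a := 1) (b := 8) le_rfl (by omega) (Or.inl rfl) (Or.inl rfl)
      odd_one (elt_one 1) (elt_thirtytwo h2)
    exact ⟨g, by rw [hg, Nat.lcm_one_left]⟩

theorem two_ne_zero_of_odd (h : Odd (Nat.card F)) : (2 : F) ≠ 0 := by
  intro h0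
  let _ := Fintype.ofFinite F
  have h1 : ringChar F = 2 := by
    have h3 : ringChar F ∣ 2 := (ringChar.spec F 2).1 (by exact_mod_cast h0)
    rcases (Nat.dvd_prime Nat.prime_two).1 h3 with h4 | h4
    · exfalso
      have h5 := ringChar.Nat.cast_ringChar (R := F)
      rw [h4, Nat.cast_one] at h5
      exact one_ne_zero h5
    · exact h4
  have h2 := FiniteField.even_card_of_char_two h1
  rw [Nat.card_eq_fintype_card] at h
  have := Nat.odd_iff.1 h
  omega

end groups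

/-- **The hypotheses on a coclique.** -/
structure Hyp (S : Type*) [Group S] (C : Finset ℕ) : Prop where
  coc : IsCoc S C
  five : ∀ s ∈ C, 5 ≤ s
  no16 : ∀ s ∈ C, ¬ ∃ g : S, orderOf g = 16 * s
  card : 8 ≤ C.card ∨ (7 ≤ C.card ∧ ¬ ∃ g : S, orderOf g = 32)

namespace Hyp

variable {C : Finset ℕ}

theorem congr {S T : Type*} [Group S] [Group T] (e : S ≃* T) (h : Hyp S C) : Hyp T C where
  coc := h.coc.congr e
  five := h.five
  no16 := fun s hs ⟨g, hg⟩ => h.no16 s hs ⟨e.symm g, by rw [MulEquiv.orderOf_eq, hg]⟩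
  card := h.card.imp id fun h' => ⟨h'.1, fun ⟨g, hg⟩ => h'.2 ⟨e.symm g, by rw [MulEquiv.orderOf_eq, hg]⟩⟩

section

variable {F : Type*} [Field F] [Fintype F]

theorem psl (hF : Odd (Fintype.card F)) {l : ℕ} (hl : 2 ≤ l)
    (h : Hyp (Matrix.ProjectiveSpecialLinearGroup (Fin l) F) C) : False := by
  have h1 := psl_card hF (m := 3) (by norm_num) hl h.coc h.five h.no16
  have h2 := h.card
  omega

theorem psu {q : ℕ} (hF : Fintype.card F = q ^ 2) (hq : Odd q) {l : ℕ} (hl : 3 ≤ l) (h : Hyp (PSU l F q) C) : False := by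
  have h1 := psu_card hF hq (m := 3) (by norm_num) hl (fun _ => le_rfl) h.coc h.five h.no16
  have h2 := h.card
  omega

theorem oplus (hF : Odd (Nat.card F)) {m : ℕ} (hm : 4 ≤ m) (h : Hyp (POmega F (quadFormPlus m F)) C) {r s : ℕ}
    (hrs : TwoSep (POmega F (quadFormPlus m F)) r s) : False := by
  have h2 := two_ne_zero_of_odd hF
  have hρ : ∀ r ∈ C, r.Prime ∧ r ∣ Nat.card (POmega F (quadFormPlus m F)) := fun r hr =>
    ⟨h.coc.prime r hr, h.coc.dvd r hr⟩
  have h7 := plus_card h2 hm hρ h.coc.indep h.five h.no16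
  rcases h.card with h8 | ⟨h8, h32⟩
  · omega
  obtain ⟨hmo, hq, -⟩ := hrs.oplus hm hF
  by_cases hm9 : 9 ≤ m
  · exact h32 (plus_thirtytwo h2 hm9 fun _ => hq)
  · have h9 := plus_small (m := m) (by
      obtain ⟨j, hj⟩ := hmo
      omega) hρ h.coc.indep h.five
    omega

theorem ominus (hF : Odd (Nat.card F)) {m : ℕ} (hm : 4 ≤ m) {a b : F}
    (hab : ∀ z₁ z₂ : F, z₁ ^ 2 + a * z₁ * z₂ + b * z₂ ^ 2 = 0 → z₁ = 0 ∧ z₂ = 0)
    (h : Hyp (POmega F (quadFormMinus (m - 1) F a b)) C) {r s : ℕ}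
    (hrs : TwoSep (POmega F (quadFormMinus (m - 1) F a b)) r s) : False := by
  have h2 := two_ne_zero_of_odd hF
  have hρ : ∀ r ∈ C, r.Prime ∧ r ∣ Nat.card (POmega F (quadFormMinus (m - 1) F a b)) := fun r hr =>
    ⟨h.coc.prime r hr, h.coc.dvd r hr⟩
  have h7 := minus_card h2 hm hab hρ h.coc.indep h.five h.no16
  rcases h.card with h8 | ⟨h8, h32⟩
  · omega
  obtain ⟨hmo, hq, -⟩ := hrs.ominus hm hF hab
  by_cases hm9 : 9 ≤ m
  · exact h32 (minus_thirtytwo h2 hm9 (fun _ => hq) hab)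
  · have h9 := minus_small (m := m) (by
      obtain ⟨j, hj⟩ := hmo
      omega) hab hρ h.coc.indep h.five
    omega

end

variable {S : Type*} [Group S]

/-- **`S` a classical group over a field of odd order, in the sense of `IsKnownSimple'`** -/
theorem isPSL (h : Hyp S C) {F : Type*} [Field F] [Fintype F] (hF : Odd (Fintype.card F)) {l : ℕ} (hl : 2 ≤ l)
    (e : S ≃* Matrix.ProjectiveSpecialLinearGroup (Fin l) F) : False :=
  psl hF hl (h.congr e)

theorem isPSU (h : Hyp S C) {F : Type*} [Field F] [Fintype F] {q : ℕ} (hF : Fintype.card F = q ^ 2) (hq : Odd q) {l : ℕ}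
    (hl : 3 ≤ l) (e : S ≃* PSU l F q) : False :=
  psu hF hq hl (h.congr e)

theorem isPOmegaPlus (h : Hyp S C) {F : Type*} [Field F] [Fintype F] (hF : Odd (Nat.card F)) {m : ℕ} (hm : 4 ≤ m)
    (e : S ≃* POmega F (quadFormPlus m F)) {r s : ℕ} (hrs : TwoSep S r s) : False :=
  oplus hF hm (h.congr e) (hrs.of_mulEquiv e)

theorem isPOmegaMinus (h : Hyp S C) {F : Type*} [Field F] [Fintype F] (hF : Odd (Nat.card F)) {m : ℕ} (hm : 4 ≤ m) {a b : F}
    (hab : ∀ z₁ z₂ : F, z₁ ^ 2 + a * z₁ * z₂ + b * z₂ ^ 2 = 0 → z₁ = 0 ∧ z₂ = 0)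
    (e : S ≃* POmega F (quadFormMinus (m - 1) F a b)) {r s : ℕ} (hrs : TwoSep S r s) : False :=
  ominus hF hm hab (h.congr e) (hrs.of_mulEquiv e)

end Hyp

end Cfsg.Agent.H361.T16
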