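import Cfsg.Agent.H414.T29.LCoc
import Cfsg.Agent.H361.T16

/-!
# `PSL_n(q)`, `n = 2 ^ m ≥ 16`, `q = 2 ^ k`: classical sections in odd characteristic (helper361, for S3628, S3629)

* `no_sixteen` : `ord_w(q) = j ≥ n - 8`, `j ≥ 9` ⇒ no element of order `16 w`;
* `exists_hyp` : the coclique; `twoSep` : two separated primes far from `2`; `not_altL2`;
* `odd_classical` : a classical `S` over a field of odd order is impossible.
-/

set_option autoImplicit false

namespace Cfsg.Agent.H361.OddT29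

open Polynomial Cfsg.Agent.H403 NumTop Cfsg.Agent.H414.T29
open Cfsg.Agent.H420.QR (IsCoq SHyp)

section lside

variable {F : Type*} [Field F] [Fintype F] {k m : ℕ}

theorem mem_of_orb {E : Type*} [Field E] {x : ℤ} {R T : Multiset E} (h : Cl x T) {y z : E} (hz : z ∈ orb x y) (hzT : z ∈ T) :
    y ∈ T := by
  classical
  have h1 : ∀ u : E, u ^ x ∈ T → u ∈ T := by
    intro u hu
    rw [← Multiset.count_pos] at hu ⊢
    have h2 := Multiset.count_map_eq_count' (fun y : E => y ^ x) T h.inj u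
    rw [h.map] at h2
    rw [← h2]
    exact hu
  obtain ⟨j, rfl⟩ := mem_orb hz
  rw [← iterate_zpow] at hzT
  clear hz
  induction j with
  | zero => exact hzT
  | succ j ih =>
    rw [Function.iterate_succ_apply'] at hzT
    exact ih (h1 _ hzT)

/-- **No element of order `16 w`.** -/
theorem no_sixteen (hF : Fintype.card F = 2 ^ k) (g : PL m F) {w j : ℕ} (hw : w.Prime)
    (hi : orderOf ((2 ^ k : ℕ) : ZMod w) = j) (hj9 : 9 ≤ j) (hj : 2 ^ m ≤ j + 8) (hj2 : 2 ^ m < 2 * j) :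
    orderOf g ≠ 16 * w := by
  classical
  intro hg
  have hk := one_lt hF
  have hq : 2 ≤ 2 ^ k := Nat.one_lt_two_pow (by omega)
  have hchar := charTwo_ext (AlgebraicClosure F) hF
  have hcharF := charTwo hF
  obtain ⟨M, hdet, hM, hMg, hMg'⟩ := exists_mat (AlgebraicClosure F) hF g
  obtain ⟨y, hy, hper⟩ := exists_orb hF hM hMg' hw hi (by omega) hj2 (by rw [hg]; exact Dvd.intro_left 16 rfl)
  have hcard : Multiset.card (evs (AlgebraicClosure F) M) = 2 ^ m := by rw [card_evs, Fintype.card_fin]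
  have hall : ∀ z ∈ evs (AlgebraicClosure F) M, z ^ w = 1 := fun z hz => by
    have h1 := pow_evs ((hMg _).1 (pow_orderOf_eq_one g)) hz
    rw [hg, show 16 * w = 2 ^ 4 * w by ring] at h1
    exact (pow_eq_one_iff _ _ _).1 h1
  obtain ⟨T, hT⟩ := Multiset.le_iff_exists_add.1 (hM.orb_le hy)
  have hTc : Multiset.card T ≤ 8 := by
    have := congrArg Multiset.card hT
    rw [Multiset.card_add, card_orb, hcard, hper] at this
    omega
  have hCl : Cl (((2 ^ k : ℕ) : ℤ)) T := by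
    refine ⟨hM.inj, ?_, fun h => hM.zero (by rw [hT]; exact Multiset.mem_add.2 (Or.inr h))⟩
    have h1 := hM.map
    rw [hT, Multiset.map_add, orb_map hM] at h1
    exact add_left_cancel h1
  have hdisj : ∀ z ∈ orb (((2 ^ k : ℕ) : ℤ)) y, z ∉ T := by
    intro z hz hzT
    have h1 := mem_of_orb (R := T) hCl hz hzT
    have h2 := Multiset.card_le_card (hCl.orb_le h1)
    rw [card_orb, hper] at h2
    omega
  have hdvd : M.charpoly ∣ (X ^ w - 1 : F[X]) ^ (2 ^ 3) := by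
    rw [← Polynomial.map_dvd_map' (algebraMap F (AlgebraicClosure F)), map_charpoly_eq_prod,
      Polynomial.map_pow, Polynomial.map_sub, Polynomial.map_pow, Polynomial.map_X, Polynomial.map_one]
    have hne : (X ^ w - 1 : (AlgebraicClosure F)[X]) ≠ 0 := by
      have := X_pow_sub_C_ne_zero hw.pos (1 : AlgebraicClosure F)
      rwa [C_1] at this
    rw [Multiset.prod_X_sub_C_dvd_iff_le_roots (pow_ne_zero _ hne), roots_pow, Multiset.le_iff_count]
    intro z
    rw [Multiset.count_nsmul]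
    by_cases hz : z ∈ evs (AlgebraicClosure F) M
    · have h1 : 1 ≤ Multiset.count z (X ^ w - 1 : (AlgebraicClosure F)[X]).roots := by
        rw [Nat.one_le_iff_ne_zero, ← Nat.pos_iff_ne_zero, Multiset.count_pos, mem_roots hne, IsRoot.def]
        simp [hall z hz]
      have h2 : Multiset.count z (evs (AlgebraicClosure F) M) ≤ 8 := by
        rw [hT, Multiset.count_add]
        by_cases hzo : z ∈ orb (((2 ^ k : ℕ) : ℤ)) y
        · have h3 := Multiset.nodup_iff_count_le_one.1 (orb_nodup (((2 ^ k : ℕ) : ℤ)) y) z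
          have h4 := Multiset.count_eq_zero_of_notMem (hdisj z hzo)
          omega
        · have h3 := Multiset.count_eq_zero_of_notMem hzo
          have h4 := Multiset.count_le_card z T
          omega
      calc _ ≤ 8 := h2
        _ ≤ _ := by
          have : 8 * 1 ≤ 2 ^ 3 * Multiset.count z (X ^ w - 1 : (AlgebraicClosure F)[X]).roots :=
            Nat.mul_le_mul (by norm_num) h1
          simpa using this
    · rw [Multiset.count_eq_zero_of_notMem hz]
      exact Nat.zero_le _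
  have h8 : M ^ (w * 2 ^ 3) = 1 := by
    have : Fact (Nat.Prime 2) := ⟨Nat.prime_two⟩
    rw [sub_pow_char_pow, one_pow, ← pow_mul] at hdvd
    have h2 := aeval_eq_of_dvd hdvd
    rw [map_sub, map_pow, aeval_X, map_one, sub_eq_zero] at h2
    exact h2
  have h9 := orderOf_dvd_of_pow_eq_one ((hMg _).2 h8)
  have hwp := hw.pos
  rw [hg] at h9
  have := Nat.le_of_dvd (by positivity) h9
  omega

theorem far_n (hF : Fintype.card F = 2 ^ k) (hm : 4 ≤ m) {w : ℕ} (hw : Pp w (2 ^ m * k)) :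
    ¬ ∃ x : PL m F, orderOf x = 2 * w := by
  rintro ⟨x, hx⟩
  have hk := one_lt hF
  have hq : 2 ≤ 2 ^ k := Nat.one_lt_two_pow (by omega)
  have h1 := top hF (by omega) x hw.prime (hw.ord_mul (by omega)) (by rw [hx]; exact Dvd.intro_left 2 rfl)
  have h2 : 2 ∣ ((2 ^ k) ^ (2 ^ m) - 1) / (2 ^ k - 1) := (Dvd.intro w hx.symm).trans h1
  have h3 : ((2 ^ k) ^ (2 ^ m) - 1) / (2 ^ k - 1) ∣ (2 ^ k) ^ (2 ^ m) - 1 := by
    have := Nat.sub_dvd_pow_sub_pow (2 ^ k) 1 (2 ^ m)
    rw [one_pow] at this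
    exact Nat.div_dvd_of_dvd this
  have h4 : 2 ∣ (2 ^ k) ^ (2 ^ m) := dvd_pow (dvd_pow_self 2 (by omega)) (by positivity)
  have h5 := h2.trans h3
  have h6 : 1 ≤ (2 ^ k) ^ (2 ^ m) := Nat.one_le_pow _ _ (by omega)
  omega

theorem far_pred (hF : Fintype.card F = 2 ^ k) (hm : 4 ≤ m) {w : ℕ} (hw : Pp w ((2 ^ m - 1) * k)) :
    ¬ ∃ x : PL m F, orderOf x = 2 * w := by
  rintro ⟨x, hx⟩
  have hk := one_lt hF
  have hn : 16 ≤ 2 ^ m := by
    calc 16 = 2 ^ 4 := rfl
      _ ≤ 2 ^ m := Nat.pow_le_pow_right (by norm_num) hm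
  have h1 := far hF (by omega) x hw.prime (hw.ord_mul (by omega)) (by rw [hx]; exact Dvd.intro_left 2 rfl)
  have h2 : 2 ∣ (2 ^ k) ^ (2 ^ m - 1) - 1 := (Dvd.intro w hx.symm).trans h1
  have h4 : 2 ∣ (2 ^ k) ^ (2 ^ m - 1) := dvd_pow (dvd_pow_self 2 (by omega)) (by omega)
  have h6 : 1 ≤ (2 ^ k) ^ (2 ^ m - 1) := Nat.one_le_pow _ _ (by positivity)
  omega

end lside

section section_

open Cfsg Cfsg.Agent.H361.T16 Cfsg.Agent.H356 Cfsg.Agent.H414.Rad

universe u v

variable {F : Type v} [Field F] [Fintype F] {k m : ℕ} {S : Type u} [Group S] [Finite S]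

theorem coc_filter (h : SHyp (PL m F) S) {ρ : Finset ℕ} (hρ : IsCoq (PL m F) ρ) (h3 : 3 ≤ ρ.card) :
    ρ.card ≤ (ρ.filter fun r => r ∣ Nat.card S).card + 1 := by
  classical
  have h1 := Finset.card_filter_add_card_filter_not (s := ρ) (fun r => r ∣ Nat.card S)
  have h2 : (ρ.filter fun r => ¬ r ∣ Nat.card S).card ≤ 1 := by
    rw [Finset.card_le_one]
    intro a ha b hb
    rw [Finset.mem_filter] at ha hb
    exact h.coc ρ hρ h3 a ha.1 b hb.1 ha.2 hb.2
  omega

/-- **The coclique.** -/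
theorem exists_hyp (hF : Fintype.card F = 2 ^ k) (hm : 4 ≤ m) (h : SHyp (PL m F) S)
    (hsub : ∀ s : S, ∃ l : PL m F, orderOf l = orderOf s) : ∃ C, Hyp S C := by
  classical
  have hk := one_lt hF
  have hn : 2 ^ m = 2 * 2 ^ (m - 1) := by rw [← pow_succ', Nat.sub_add_cancel (by omega)]
  obtain ⟨w, hw, hcoq, hcard⟩ := exists_coc hF hm
  have hinj : ∀ i j, 2 ^ (m - 1) < i → 2 ^ (m - 1) < j → w i = w j → i = j := by
    intro i j hi hj h
    have h1 := hw i hi
    rw [h] at h1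
    exact Nat.eq_of_mul_eq_mul_right (by omega) (h1.unique (hw j hj))
  have h8 : 8 ≤ 2 ^ (m - 1) := by
    calc 8 = 2 ^ 3 := rfl
      _ ≤ 2 ^ (m - 1) := Nat.pow_le_pow_right (by norm_num) (by omega)
  set lo := max (2 ^ (m - 1)) (2 ^ m - 9) with hlo
  have hsubset : (Finset.Ioc lo (2 ^ m)).image w ⊆ (Finset.Ioc (2 ^ (m - 1)) (2 ^ m)).image w :=
    Finset.image_subset_image (Finset.Ioc_subset_Ioc_left (le_max_left _ _))
  have hρ := hcoq.subset hsubset
  have hρc : ((Finset.Ioc lo (2 ^ m)).image w).card = 2 ^ m - lo := by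
    rw [Finset.card_image_of_injOn, Nat.card_Ioc]
    intro i hi j hj h
    rw [Finset.mem_coe, Finset.mem_Ioc] at hi hj
    exact hinj i j (lt_of_le_of_lt (le_max_left _ _) hi.1) (lt_of_le_of_lt (le_max_left _ _) hj.1) h
  have hfil := coc_filter h hρ (by rw [hρc]; omega)
  rw [hρc] at hfil
  have hmem : ∀ s ∈ ((Finset.Ioc lo (2 ^ m)).image w).filter (fun r => r ∣ Nat.card S), s ∣ Nat.card S ∧
      s ∈ (Finset.Ioc lo (2 ^ m)).image w ∧ ∃ j, lo < j ∧ j ≤ 2 ^ m ∧ Pp s (j * k) := by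
    intro s hs
    obtain ⟨h1, h2⟩ := Finset.mem_filter.1 hs
    refine ⟨h2, h1, ?_⟩
    obtain ⟨j, hj, rfl⟩ := Finset.mem_image.1 h1
    rw [Finset.mem_Ioc] at hj
    exact ⟨j, hj.1, hj.2, hw j (lt_of_le_of_lt (le_max_left _ _) hj.1)⟩
  refine ⟨((Finset.Ioc lo (2 ^ m)).image w).filter (fun r => r ∣ Nat.card S), ⟨?_, ?_, ?_⟩, ?_, ?_, ?_⟩
  · exact fun s hs => hρ.prime s (hmem s hs).2.1
  · exact fun s hs => (hmem s hs).1
  · intro p hp q hq hpq hx
    exact hρ.nadj p (hmem p hp).2.1 q (hmem q hq).2.1 hpq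
      (h.adj p q (hρ.prime p (hmem p hp).2.1) (hρ.prime q (hmem q hq).2.1) hpq hx)
  · intro s hs
    obtain ⟨-, -, j, hj, -, hs'⟩ := hmem s hs
    have h1 := hs'.pred_dvd (by nlinarith)
    have h2 := hs'.prime.two_le
    have h3 := Nat.le_of_dvd (by omega) h1
    have h4 : j * 1 ≤ j * k := Nat.mul_le_mul_left j hk
    omega
  · rintro s hs ⟨g, hg⟩
    obtain ⟨-, -, j, hj, hjn, hs'⟩ := hmem s hs
    obtain ⟨l, hl⟩ := hsub g
    exact no_sixteen hF l hs'.prime (hs'.ord_mul (by omega)) (by omega) (by omega) (by omega) (hl.trans hg)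
  · by_cases hm4 : m = 4
    · right
      subst hm4
      refine ⟨by omega, ?_⟩
      rintro ⟨g, hg⟩
      obtain ⟨l, hl⟩ := hsub g
      exact two_part hF l (by rw [hl, hg]; norm_num)
    · left
      have h16 : 16 ≤ 2 ^ (m - 1) := by
        calc 16 = 2 ^ 4 := rfl
          _ ≤ 2 ^ (m - 1) := Nat.pow_le_pow_right (by norm_num) (by omega)
      omega

/-- `S` is not `A₇` nor `PSL₂` over a field of odd order -/
theorem not_altL2_of_hyp {C : Finset ℕ} (h : Hyp S C) : ¬ AltL2 S := by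
  rintro (⟨⟨e⟩⟩ | ⟨E, _, _, hE, ⟨e⟩⟩)
  · have h1 := h.card
    have h2 : C ⊆ {5, 7} := by
      intro s hs
      have h3 := h.coc.dvd s hs
      have h4 := h.coc.prime s hs
      have h5 := h.five s hs
      rw [Nat.card_congr e.toEquiv] at h3
      have h6 : Nat.card (alternatingGroup (Fin 7)) = 2520 := by
        rw [nat_card_alternatingGroup, Nat.card_eq_fintype_card, Fintype.card_fin]
        rfl
      rw [h6] at h3
      have h7 : s ∈ Nat.primeFactors 2520 := Nat.mem_primeFactors.2 ⟨h4, h3, by norm_num⟩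
      have h8 : Nat.primeFactors 2520 = {2, 3, 5, 7} := by
        rw [show 2520 = 2 ^ 3 * (3 ^ 2 * (5 * 7)) by norm_num, Nat.primeFactors_mul (by norm_num) (by norm_num),
          Nat.primeFactors_mul (by norm_num) (by norm_num), Nat.primeFactors_mul (by norm_num) (by norm_num),
          Nat.primeFactors_prime_pow (by norm_num) Nat.prime_two, Nat.primeFactors_prime_pow (by norm_num) Nat.prime_three,
          Nat.Prime.primeFactors (by norm_num), Nat.Prime.primeFactors (by norm_num)]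
        rfl
      rw [h8] at h7
      simp only [Finset.mem_insert, Finset.mem_singleton] at h7 ⊢
      omega
    have h3 := Finset.card_le_card h2
    have h4 : ({5, 7} : Finset ℕ).card = 2 := rfl
    omega
  · exact h.isPSL hE le_rfl e

theorem not_altL2 (hF : Fintype.card F = 2 ^ k) (hm : 4 ≤ m) (h : SHyp (PL m F) S)
    (hsub : ∀ s : S, ∃ l : PL m F, orderOf l = orderOf s) : ¬ AltL2 S := by
  obtain ⟨C, hC⟩ := exists_hyp hF hm h hsub
  exact not_altL2_of_hyp hC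

/-- **two separated primes far from `2`** -/
theorem exists_twoSep (hF : Fintype.card F = 2 ^ k) (hm : 4 ≤ m) (h : SHyp (PL m F) S)
    (hsub : ∀ s : S, ∃ l : PL m F, orderOf l = orderOf s) {r s : ℕ} (hr : Pp r ((2 ^ m - 1) * k)) (hs : Pp s (2 ^ m * k)) :
    TwoSep S r s := by
  have hk := one_lt hF
  have hn : 16 ≤ 2 ^ m := by
    calc 16 = 2 ^ 4 := rfl
      _ ≤ 2 ^ m := Nat.pow_le_pow_right (by norm_num) hm
  have h2 := h.two.resolve_left (not_altL2 hF hm h hsub)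
  have hr2 : r ≠ 2 := hr.ne_two (Nat.mul_pos (by omega) hk)
  have hs2 : s ≠ 2 := hs.ne_two (Nat.mul_pos (by omega) hk)
  obtain ⟨gr, hgr⟩ := exists_of_pp (m := m) hF (by omega) (j := 2 ^ m - 1) (by omega) (by omega) hr
  obtain ⟨gs, hgs⟩ := exists_of_pp (m := m) hF (by omega) (j := 2 ^ m) (by omega) le_rfl hs
  have hne : r ≠ s := by
    rintro rfl
    have h1 := Nat.eq_of_mul_eq_mul_right (by omega) (hr.unique hs)
    omega
  exact
    { pr := hr.prime, ps := hs.prime, r2 := hr2, s2 := hs2, ne := hne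
      dr := h2 r hr.prime hr2 (hgr ▸ orderOf_dvd_natCard gr) (far_pred hF hm hr)
      ds := h2 s hs.prime hs2 (hgs ▸ orderOf_dvd_natCard gs) (far_n hF hm hs)
      far_r := fun hx => far_pred hF hm hr (h.adj 2 r Nat.prime_two hr.prime hr2.symm hx)
      far_s := fun hx => far_n hF hm hs (h.adj 2 s Nat.prime_two hs.prime hs2.symm hx)
      sep := fun hx => not_adj hF (by omega) le_rfl (by omega) hr hs (by omega) (h.adj r s hr.prime hs.prime hne hx) }

/-- **Classical sections over fields of odd order are impossible.** -/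
theorem odd_classical (hF : Fintype.card F = 2 ^ k) (hm : 4 ≤ m) (h : SHyp (PL m F) S)
    (hsub : ∀ s : S, ∃ l : PL m F, orderOf l = orderOf s) {E : Type*} [Field E] [Fintype E] (hE : Odd (Fintype.card E))
    (hS : (∃ l : ℕ, 2 ≤ l ∧ Nonempty (S ≃* Matrix.ProjectiveSpecialLinearGroup (Fin l) E)) ∨
      (∃ l : ℕ, 2 ≤ l ∧ Nonempty (S ≃* PSp l E)) ∨
      (∃ l q : ℕ, Fintype.card E = q ^ 2 ∧ 3 ≤ l ∧ Nonempty (S ≃* PSU l E q)) ∨
      (∃ l : ℕ, 3 ≤ l ∧ Nonempty (S ≃* POmega E (quadFormOdd l E))) ∨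
      (∃ l : ℕ, 4 ≤ l ∧ Nonempty (S ≃* POmega E (quadFormPlus l E))) ∨
      (∃ (l : ℕ) (a b : E), 4 ≤ l ∧ (∀ z₁ z₂ : E, z₁ ^ 2 + a * z₁ * z₂ + b * z₂ ^ 2 = 0 → z₁ = 0 ∧ z₂ = 0) ∧
        Nonempty (S ≃* POmega E (quadFormMinus (l - 1) E a b)))) : False := by
  have hk := one_lt hF
  have hn : 16 ≤ 2 ^ m := by
    calc 16 = 2 ^ 4 := rfl
      _ ≤ 2 ^ m := Nat.pow_le_pow_right (by norm_num) hm
  have hE' : Odd (Nat.card E) := by rwa [Nat.card_eq_fintype_card]
  obtain ⟨C, hC⟩ := exists_hyp hF hm h hsub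
  obtain ⟨r, hr⟩ := exists_pp (i := (2 ^ m - 1) * k) (by
    have : (2 ^ m - 1) * 1 ≤ (2 ^ m - 1) * k := Nat.mul_le_mul_left _ hk
    omega)
  obtain ⟨s, hs⟩ := exists_pp (i := 2 ^ m * k) (by
    have : 2 ^ m * 1 ≤ 2 ^ m * k := Nat.mul_le_mul_left _ hk
    omega)
  have hrs := exists_twoSep hF hm h hsub hr hs
  rcases hS with ⟨l, hl, ⟨e⟩⟩ | ⟨l, hl, ⟨e⟩⟩ | ⟨l, q, hq, hl, ⟨e⟩⟩ | ⟨l, hl, ⟨e⟩⟩ | ⟨l, hl, ⟨e⟩⟩ | ⟨l, a, b, hl, hab, ⟨e⟩⟩
  · exact hC.isPSL hE hl e
  · exact TwoSep.psp hl hE (hrs.of_mulEquiv e)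
  · refine hC.isPSU hq ?_ hl e
    rw [hq] at hE
    exact (Nat.odd_pow_iff (by norm_num)).1 hE
  · exact TwoSep.oodd hl hE (hrs.of_mulEquiv e)
  · exact hC.isPOmegaPlus hE' hl e hrs
  · exact hC.isPOmegaMinus hE' hl hab e hrs

end section_

end Cfsg.Agent.H361.OddT29
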