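import Cfsg.Agent.OrdDiv.Main
import Cfsg.Agent.Lib.MinNormal

/-!
Order arguments: a finite group whose non-trivial normal subgroups all have order divisible by `c`.
-/

set_option autoImplicit false

namespace Cfsg.Agent.H361.OrdCases

open Cfsg Cfsg.Agent.OrdDiv

universe u

/-- If a prime divides `|G|` exactly once and `c` divides the order of every non-trivial normal subgroup, then
there is a non-abelian simple normal subgroup with trivial centraliser. -/
theorem exists_simple {G : Type u} [Group G] [Finite G] [Nontrivial G] {c r : ℕ} (hr : r.Prime)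
    (hrc : r ∣ c) (hcr : ¬ c ∣ r) (hrG : ¬ r ^ 2 ∣ Nat.card G)
    (hc : ∀ E : Subgroup G, E.Normal → E ≠ ⊥ → c ∣ Nat.card E) :
    ∃ E : Subgroup G, E.Normal ∧ IsSimpleGroup E ∧ (¬ ∀ a b : E, a * b = b * a) ∧ c ∣ Nat.card E ∧
      Subgroup.centralizer (E : Set G) = ⊥ := by
  classical
  -- a minimal normal subgroup
  obtain ⟨E, ⟨hE, hE1⟩, hmin⟩ : ∃ E : Subgroup G, (E.Normal ∧ E ≠ ⊥) ∧
      ∀ F : Subgroup G, F.Normal ∧ F ≠ ⊥ → F ≤ E → F = E := by
    obtain ⟨E, hE⟩ := (Set.toFinite {E : Subgroup G | E.Normal ∧ E ≠ ⊥}).exists_minimal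
      ⟨⊤, inferInstance, by
        intro h
        exact (not_subsingleton G) (Subgroup.subsingleton_iff.1 (subsingleton_of_bot_eq_top h.symm))⟩
    exact ⟨E, hE.1, fun F hF hle => le_antisymm hle (hE.2 hF hle)⟩
  have hmin' : ∀ M : Subgroup G, M.Normal → M ≤ E → M = ⊥ ∨ M = E := by
    intro M hM hle
    by_cases h : M = ⊥
    · exact Or.inl h
    · exact Or.inr (hmin M ⟨hM, h⟩ hle)
  have hcE := hc E hE hE1
  have hrE : r ∣ Nat.card E := hrc.trans hcE
  obtain ⟨T, m, hT, hTs, hm, ⟨φ⟩⟩ := Lib.MinNormal.exists_mulEquiv_pi E hE1 hmin'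
  have hcard : Nat.card E = Nat.card T ^ m := by
    rw [Nat.card_congr φ.toEquiv, Nat.card_fun, Nat.card_eq_fintype_card (α := Fin m), Fintype.card_fin]
  have hm1 : m = 1 := by
    by_contra hne
    apply hrG
    have h1 : r ∣ Nat.card T := by
      rw [hcard] at hrE
      exact hr.dvd_of_dvd_pow hrE
    have h2 : r ^ 2 ∣ Nat.card E := by
      rw [hcard]
      exact (pow_dvd_pow_of_dvd h1 2).trans (pow_dvd_pow _ (by omega))
    exact h2.trans (Subgroup.card_subgroup_dvd_card E)
  subst hm1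
  have hEs : IsSimpleGroup E := by
    have e : (Fin 1 → T) ≃* T :=
      { (Equiv.funUnique (Fin 1) T) with map_mul' := fun _ _ => rfl }
    exact (φ.trans e).isSimpleGroup
  have hna : ¬ ∀ a b : E, a * b = b * a := by
    intro hab
    let _ : CommGroup E := { (inferInstance : Group E) with mul_comm := hab }
    have hp : (Nat.card E).Prime := by
      have : IsSimpleGroup E := hEs
      exact IsSimpleGroup.prime_card
    have h1 : r = Nat.card E := (Nat.prime_dvd_prime_iff_eq hr hp).1 hrE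
    exact hcr (h1 ▸ hcE)
  refine ⟨E, hE, hEs, hna, hcE, ?_⟩
  by_contra hne
  have hCn : (Subgroup.centralizer (E : Set G)).Normal := inferInstance
  have h1 : r ∣ Nat.card (Subgroup.centralizer (E : Set G)) := hrc.trans (hc _ hCn hne)
  -- `E ∩ C(E) = 1`
  have h2 : E ⊓ Subgroup.centralizer (E : Set G) = ⊥ := by
    by_contra h3
    apply hna
    have h4 := hmin (E ⊓ Subgroup.centralizer (E : Set G)) ⟨inferInstance, h3⟩ inf_le_left
    intro a b
    have h5 : (b : G) ∈ Subgroup.centralizer (E : Set G) := by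
      have : (b : G) ∈ E ⊓ Subgroup.centralizer (E : Set G) := by rw [h4]; exact b.2
      exact this.2
    exact Subtype.ext (Subgroup.mem_centralizer_iff.1 h5 a a.2)
  apply hrG
  have hcomm : ∀ (a : E) (b : Subgroup.centralizer (E : Set G)), Commute (a : G) (b : G) := by
    intro a b
    exact Subgroup.mem_centralizer_iff.1 b.2 a a.2
  let f : E × Subgroup.centralizer (E : Set G) →* G :=
    MonoidHom.noncommCoprod E.subtype (Subgroup.centralizer (E : Set G)).subtype hcomm
  have hf : Function.Injective f := by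
    rw [injective_iff_map_eq_one]
    rintro ⟨a, b⟩ hab
    have hab' : (a : G) * (b : G) = 1 := hab
    have h6 : (a : G) ∈ E ⊓ Subgroup.centralizer (E : Set G) := by
      refine ⟨a.2, ?_⟩
      rw [mul_eq_one_iff_eq_inv.1 hab']
      exact (Subgroup.centralizer (E : Set G)).inv_mem b.2
    rw [h2, Subgroup.mem_bot] at h6
    rw [h6, one_mul] at hab'
    exact Prod.ext (Subtype.ext h6) (Subtype.ext hab')
  have h4 := Subgroup.card_dvd_of_injective f hf
  rw [Nat.card_prod] at h4
  refine Dvd.dvd.trans ?_ h4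
  rw [pow_two]
  exact Nat.mul_dvd_mul hrE h1

/-- The hypothesis that the group is excluded. -/
def Ex (N c : ℕ) : Prop := ∀ S : Type u, ∀ (_ : Group S) (_ : Finite S), IsSimpleGroup S →
  (¬ ∀ a b : S, a * b = b * a) → Nat.card S ∣ N → c ∣ Nat.card S → False

theorem ex_of (T : OrderTable.{u}) (hS : ∀ (G : Type u) [Group G] [Finite G] [IsSimpleGroup G], IsKnownSimple' G)
    {l : List (ℕ × ℕ)} {N c : ℕ} (hv : valid l N = true)
    (h : (cands l N).filter (fun g => ordN g % c == 0) = []) : Ex.{u} N c := by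
  intro S _ _ _ hna hd hc
  obtain ⟨g, hg, -⟩ := exists_real_filter T (hS S) hna hv hd (fun n => n % c == 0) (by
    rw [beq_iff_eq]
    exact Nat.mod_eq_zero_of_dvd hc)
  rw [h] at hg
  exact absurd hg List.not_mem_nil

section

variable (T : OrderTable.{u}) (hS : ∀ (G : Type u) [Group G] [Finite G] [IsSimpleGroup G], IsKnownSimple' G)

include T hS

theorem ex42 : Ex.{u} (2^9*3^3*17) 459 :=
  ex_of T hS (l := [(2,9),(3,3),(17,1)]) (by decide +kernel) (by decide +kernel)

theorem ex62 : Ex.{u} (2^13*3^4*7*13) 7371 :=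
  ex_of T hS (l := [(2,13),(3,4),(7,1),(13,1)]) (by decide +kernel) (by decide +kernel)

theorem ex38 : Ex.{u} (2^11*3^2*73) 657 :=
  ex_of T hS (l := [(2,11),(3,2),(73,1)]) (by decide +kernel) (by decide +kernel)

theorem ex48 : Ex.{u} (2^14*3^4*5*13) 5265 :=
  ex_of T hS (l := [(2,14),(3,4),(5,1),(13,1)]) (by decide +kernel) (by decide +kernel)

theorem ex68 : Ex.{u} (2^20*3^5*19*73) 337041 :=
  ex_of T hS (l := [(2,20),(3,5),(19,1),(73,1)]) (by decide +kernel) (by decide +kernel)

theorem m12 {S : Type u} [Group S] [Finite S] [IsSimpleGroup S] (hna : ¬ ∀ a b : S, a * b = b * a)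
    (hd : Nat.card S ∣ 2^12*3^4*5*11) (hc : 1485 ∣ Nat.card S) : Spor.IsoM12 S := by
  obtain ⟨g, hg, hr⟩ := exists_real_filter T (hS S) hna (l := [(2,12),(3,4),(5,1),(11,1)])
    (by decide +kernel) hd (fun n => n % 1485 == 0) (by
    rw [beq_iff_eq]
    exact Nat.mod_eq_zero_of_dvd hc)
  rw [show (cands [(2,12),(3,4),(5,1),(11,1)] (2^12*3^4*5*11)).filter (fun g => ordN g % 1485 == 0) = [.m12]
    from by decide +kernel] at hg
  rw [List.mem_singleton] at hg
  subst hg
  exact hr

end

/-- No group of the order in question. -/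
theorem false_of_ex {G : Type u} [Group G] [Finite G] [Nontrivial G] {N c r : ℕ} (h : Ex.{u} N c)
    (hr : r.Prime) (hrc : r ∣ c) (hcr : ¬ c ∣ r) (hrG : ¬ r ^ 2 ∣ N) (hG : Nat.card G ∣ N)
    (hc : ∀ E : Subgroup G, E.Normal → E ≠ ⊥ → c ∣ Nat.card E) : False := by
  obtain ⟨E, -, hEs, hna, hcE, -⟩ := exists_simple hr hrc hcr (fun h => hrG (h.trans hG)) hc
  exact h E inferInstance inferInstance hEs hna ((Subgroup.card_subgroup_dvd_card E).trans hG) hcE

end Cfsg.Agent.H361.OrdCases
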