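import Mathlib

/-!
# An element of order 13 of `PSL₃(3)` with centraliser of order 13
-/

set_option autoImplicit false

namespace Cfsg.Agent.H361.PSLThree

open Subgroup Matrix

abbrev SL33 := Matrix.SpecialLinearGroup (Fin 3) (ZMod 3)

instance factThree : Fact (Nat.Prime 3) := ⟨Nat.prime_three⟩

/-- the companion matrix of `x³ - x - 1`. -/
def A : SL33 := ⟨!![0, 0, 1; 1, 0, 1; 0, 1, 0], by decide⟩

theorem A_pow : A ^ 13 = 1 := by decide +kernel

theorem A_ne : A ≠ 1 := by decide +kernel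

theorem orderOf_A : orderOf A = 13 := by
  have : Fact (Nat.Prime 13) := ⟨by norm_num⟩
  exact orderOf_eq_prime A_pow A_ne

/-- the first column. -/
def col (B : Matrix (Fin 3) (Fin 3) (ZMod 3)) : Fin 3 → ZMod 3 := fun i => B i 0

theorem eq_of_col {B B' : Matrix (Fin 3) (Fin 3) (ZMod 3)}
    (hB : B * (A : Matrix (Fin 3) (Fin 3) (ZMod 3)) = (A : Matrix (Fin 3) (Fin 3) (ZMod 3)) * B)
    (hB' : B' * (A : Matrix (Fin 3) (Fin 3) (ZMod 3)) = (A : Matrix (Fin 3) (Fin 3) (ZMod 3)) * B')
    (h : col B = col B') : B = B' := by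
  have key : ∀ C : Matrix (Fin 3) (Fin 3) (ZMod 3),
      C * (A : Matrix (Fin 3) (Fin 3) (ZMod 3)) = (A : Matrix (Fin 3) (Fin 3) (ZMod 3)) * C →
      (∀ i, C i 0 = 0) → C = 0 := by
    intro C hC h0
    have h1 : ∀ i, C i 1 = 0 := by
      intro i
      have h2 := congrFun (congrFun hC i) 0
      have h3 : (C * (A : Matrix (Fin 3) (Fin 3) (ZMod 3))) i 0 = C i 1 := by
        simp [Matrix.mul_apply, Fin.sum_univ_three, A]
      rw [h3] at h2
      rw [h2, Matrix.mul_apply]
      exact Finset.sum_eq_zero fun j _ => by rw [h0 j, mul_zero]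
    have h2 : ∀ i, C i 2 = 0 := by
      intro i
      have h2 := congrFun (congrFun hC i) 1
      have h3 : (C * (A : Matrix (Fin 3) (Fin 3) (ZMod 3))) i 1 = C i 2 := by
        simp [Matrix.mul_apply, Fin.sum_univ_three, A]
      rw [h3] at h2
      rw [h2, Matrix.mul_apply]
      exact Finset.sum_eq_zero fun j _ => by rw [h1 j, mul_zero]
    ext i j
    fin_cases j
    · exact h0 i
    · exact h1 i
    · exact h2 i
  have h1 := key (B - B') (by rw [Matrix.sub_mul, Matrix.mul_sub, hB, hB']) fun i => by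
    have := congrFun h i
    simp only [col] at this
    rw [Matrix.sub_apply, this, sub_self]
  exact sub_eq_zero.1 h1

theorem col_ne (B : SL33) : col (B : Matrix (Fin 3) (Fin 3) (ZMod 3)) ≠ 0 := by
  intro h
  have h1 : (B : Matrix (Fin 3) (Fin 3) (ZMod 3)).det = 0 :=
    Matrix.det_eq_zero_of_column_eq_zero 0 fun i => congrFun h i
  rw [B.det_coe] at h1
  exact one_ne_zero h1

theorem cube (u : (ZMod 3)ˣ) : ((u : ZMod 3)) ^ 3 = u := by
  revert u; decide

theorem card_le : Nat.card (centralizer ({A} : Set SL33)) ≤ 13 := by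
  classical
  let φ : (centralizer ({A} : Set SL33)) × (ZMod 3)ˣ → {v : Fin 3 → ZMod 3 // v ≠ 0} := fun q =>
    ⟨(q.2 : ZMod 3) • col ((q.1 : SL33) : Matrix (Fin 3) (Fin 3) (ZMod 3)), fun h => by
      have h1 := col_ne (q.1 : SL33)
      rcases smul_eq_zero.1 h with h2 | h2
      · exact q.2.ne_zero h2
      · exact h1 h2⟩
  have hinj : Function.Injective φ := by
    rintro ⟨B, u⟩ ⟨B', u'⟩ h
    have h1 : (u : ZMod 3) • col ((B : SL33) : Matrix (Fin 3) (Fin 3) (ZMod 3)) =
        (u' : ZMod 3) • col ((B' : SL33) : Matrix (Fin 3) (Fin 3) (ZMod 3)) :=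
      congrArg Subtype.val h
    have hB : ∀ B : centralizer ({A} : Set SL33), ((B : SL33) : Matrix (Fin 3) (Fin 3) (ZMod 3)) *
        (A : Matrix (Fin 3) (Fin 3) (ZMod 3)) = (A : Matrix (Fin 3) (Fin 3) (ZMod 3)) * (B : SL33) := by
      intro B
      have := mem_centralizer_singleton_iff.1 B.2
      have h2 := congrArg (fun M : SL33 => (M : Matrix (Fin 3) (Fin 3) (ZMod 3))) this
      simpa using h2
    have h2 : (u : ZMod 3) • ((B : SL33) : Matrix (Fin 3) (Fin 3) (ZMod 3)) =
        (u' : ZMod 3) • ((B' : SL33) : Matrix (Fin 3) (Fin 3) (ZMod 3)) := by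
      apply eq_of_col
      · rw [Matrix.smul_mul, Matrix.mul_smul, hB B]
      · rw [Matrix.smul_mul, Matrix.mul_smul, hB B']
      · exact h1
    have h3 := congrArg Matrix.det h2
    rw [Matrix.det_smul, Matrix.det_smul, (B : SL33).det_coe, (B' : SL33).det_coe] at h3
    simp only [Fintype.card_fin, mul_one, cube] at h3
    have h4 : u = u' := Units.ext h3
    subst h4
    have h5 : (B : SL33) = (B' : SL33) := by
      have h7 : ((u⁻¹ : (ZMod 3)ˣ) : ZMod 3) * (u : ZMod 3) = 1 := Units.inv_mul u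
      have h8 : ((B : SL33) : Matrix (Fin 3) (Fin 3) (ZMod 3)) =
          ((B' : SL33) : Matrix (Fin 3) (Fin 3) (ZMod 3)) := by
        calc ((B : SL33) : Matrix (Fin 3) (Fin 3) (ZMod 3))
            = ((u⁻¹ : (ZMod 3)ˣ) : ZMod 3) • ((u : ZMod 3) •
              ((B : SL33) : Matrix (Fin 3) (Fin 3) (ZMod 3))) := by rw [smul_smul, h7, one_smul]
          _ = ((u⁻¹ : (ZMod 3)ˣ) : ZMod 3) • ((u : ZMod 3) •
              ((B' : SL33) : Matrix (Fin 3) (Fin 3) (ZMod 3))) := by rw [h2]
          _ = _ := by rw [smul_smul, h7, one_smul]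
      exact Subtype.ext h8
    exact Prod.ext (Subtype.ext h5) rfl
  have h1 := Nat.card_le_card_of_injective φ hinj
  rw [Nat.card_prod] at h1
  have h2 : Nat.card (ZMod 3)ˣ = 2 := by
    rw [Nat.card_eq_fintype_card, ZMod.card_units_eq_totient]; decide
  have h3 : Nat.card {v : Fin 3 → ZMod 3 // v ≠ 0} = 26 := by
    rw [Nat.card_eq_fintype_card, Fintype.card_subtype_compl, Fintype.card_subtype_eq]
    simp
  rw [h2, h3] at h1
  omega

theorem card_cent : Nat.card (centralizer ({A} : Set SL33)) = 13 := by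
  have h1 : 13 ∣ Nat.card (centralizer ({A} : Set SL33)) := by
    rw [← orderOf_A]
    exact Subgroup.orderOf_dvd_natCard _ (mem_centralizer_singleton_iff.2 rfl)
  have h2 := card_le
  have h3 : 0 < Nat.card (centralizer ({A} : Set SL33)) := Nat.card_pos
  exact le_antisymm h2 (Nat.le_of_dvd h3 h1)

theorem center_eq : center SL33 = ⊥ := by
  rw [eq_bot_iff]
  intro B hB
  obtain ⟨r, hr, hB⟩ := Matrix.SpecialLinearGroup.mem_center_iff.1 hB
  have h0 : ∀ r : ZMod 3, r ^ 3 = 1 → r = 1 := by decide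
  have h1 : r = 1 := by
    simp only [Fintype.card_fin] at hr
    exact h0 r hr
  rw [h1] at hB
  rw [Subgroup.mem_bot]
  apply Subtype.ext
  rw [← hB]
  simp

/-- `SL₃(3) = PSL₃(3)`. -/
noncomputable def equiv : SL33 ≃* Matrix.ProjectiveSpecialLinearGroup (Fin 3) (ZMod 3) :=
  (QuotientGroup.quotientBot (G := SL33)).symm.trans (QuotientGroup.quotientMulEquivOfEq center_eq.symm)

theorem card_centralizer_equiv {X Y : Type*} [Group X] [Group Y] (e : X ≃* Y) (x : X) :
    Nat.card (centralizer ({e x} : Set Y)) = Nat.card (centralizer ({x} : Set X)) := by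
  refine (Nat.card_congr (e.toEquiv.subtypeEquiv fun w => ?_)).symm
  rw [mem_centralizer_singleton_iff, mem_centralizer_singleton_iff]
  show w * x = x * w ↔ e w * e x = e x * e w
  rw [← map_mul, ← map_mul, e.injective.eq_iff]

theorem exists_elt : ∃ x : Matrix.ProjectiveSpecialLinearGroup (Fin 3) (ZMod 3), x ≠ 1 ∧
    Nat.card (centralizer ({x} : Set (Matrix.ProjectiveSpecialLinearGroup (Fin 3) (ZMod 3)))) = 13 := by
  refine ⟨equiv A, ?_, ?_⟩
  · intro h
    exact A_ne (equiv.injective (h.trans (map_one equiv).symm))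
  · rw [card_centralizer_equiv, card_cent]

end Cfsg.Agent.H361.PSLThree
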