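import Cfsg.Agent.H361.RankTwo
import Cfsg.Agent.Tits.Labels
import Cfsg.Agent.LieRecognition.FHSquare

/-!
Rank two (B,N)-pairs, not necessarily core-free, with `B = V (B ⊓ N)`, `V` nilpotent and normal in `B`:
`V ⊓ N` acts trivially on the chambers.
-/

set_option autoImplicit false
set_option linter.unusedSectionVars false

namespace Cfsg.Agent.H361.RankTwoBN

open Cfsg Cfsg.Agent.Tits.Core Cfsg.Agent.Tits.OppRes Cfsg.Agent.Tits.Rigid
open Cfsg.Agent.SplitTwo Cfsg.Agent.SplitTwo.Reducible Cfsg.Agent.SplitTwo.Glue MulAction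
open Cfsg.Agent.OrdDiv Cfsg.Agent.LieExceptional.BNPairCore Cfsg.Agent.Tits.OfBN

universe u

section Quot

variable {I : Type*} {M : CoxeterMatrix I} {W : Type*} [Group W] {cs : CoxeterSystem M W}
variable {C : Type u} {Δ : Bldg cs C} {G : Type*} [Group G] [MulAction G C]

/-- The permutation group on the chambers. -/
abbrev PG (G : Type*) (C : Type u) [Group G] [MulAction G C] : Subgroup (Equiv.Perm C) :=
  (MulAction.toPermHom G C).range

/-- The projection. -/
def pr (G : Type*) (C : Type u) [Group G] [MulAction G C] : G →* PG G C :=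
  (MulAction.toPermHom G C).rangeRestrict

theorem pr_smul (g : G) (x : C) : pr G C g • x = g • x := rfl

theorem exists_pr (g : PG G C) : ∃ h : G, pr G C h = g := (MulAction.toPermHom G C).rangeRestrict_surjective g

theorem split_pr {c : C} {U : Subgroup G} (H : Split Δ c U) : Split Δ c (U.map (pr G C)) := by
  refine ⟨?_, ?_, H.thick, ?_, ?_, ?_, ?_⟩
  · intro g x y
    obtain ⟨h, rfl⟩ := exists_pr g
    exact H.iso h x y
  · intro x y x' y' h
    obtain ⟨g, h1, h2⟩ := H.trans x y x' y' h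
    exact ⟨pr G C g, h1, h2⟩
  · rintro _ ⟨u, hu, rfl⟩
    exact H.fix u hu
  · rintro b hb _ ⟨u, hu, rfl⟩
    obtain ⟨h, rfl⟩ := exists_pr b
    exact ⟨h * u * h⁻¹, H.normal h hb u hu, by rw [map_mul, map_mul, map_inv]⟩
  · have h1 := H.nilp
    exact Group.nilpotent_of_surjective ((pr G C).subgroupMap U) ((pr G C).subgroupMap_surjective U)
  · intro x y h
    obtain ⟨u, hu, hux⟩ := H.sphere x y h
    exact ⟨pr G C u, ⟨u, hu, rfl⟩, hux⟩

end Quot

/-- **Rank two.** -/
theorem main (T : OrderTable.{u}) (hS : ∀ (G : Type u) [Group G] [Finite G] [IsSimpleGroup G], IsKnownSimple' G)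
    (hR : RankOneR.{u}) {G : Type u} [Group G] [Finite G] (P : Cfsg.BNPair G) {V : Subgroup G} (hVB : V ≤ P.B)
    (hVn : ∀ b ∈ P.B, ∀ u ∈ V, b * u * b⁻¹ ∈ V) (hVnil : Group.IsNilpotent V)
    (hVT : V ⊔ (P.B ⊓ P.N) = P.B) {s t : G} (hs : s ∈ P.S) (ht : t ∈ P.S) (hst : s ≠ t)
    (hPS : P.S ⊆ {s, t}) (hcomm : s * t * s⁻¹ * t⁻¹ ∉ P.B) {u : G} (hu : u ∈ V) (huN : u ∈ P.N) (x : G) :
    x⁻¹ * u * x ∈ P.B := by
  obtain ⟨M, hBN⟩ := Tits.Labels.exists_bnType P
  have hlab := fun {i j : P.S} (hij : i ≠ j) => Tits.Labels.labels hBN hij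
  obtain ⟨hNn, cs, hcs⟩ := hBN
  set a : P.S := ⟨s, hs⟩ with ha
  set b : P.S := ⟨t, ht⟩ with hb
  have hab : a ≠ b := fun h => hst (congrArg Subtype.val h)
  have hI : ∀ i : P.S, i = a ∨ i = b := by
    rintro ⟨i, hi⟩
    rcases hPS hi with h | h
    · exact Or.inl (Subtype.ext h)
    · exact Or.inr (Subtype.ext h)
  have hfinI : Finite P.S := DihPath.finI hI
  have hPS' : P.S = {s, t} := by
    apply Set.Subset.antisymm hPS
    rintro y (rfl | rfl)
    · exact hs
    · exact ht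
  -- the label is not two
  have hM2 : M a b ≠ 2 := by
    intro h3
    apply hcomm
    have h4 : (cs.simple a * cs.simple b) ^ 2 = 1 := by
      have := cs.simple_mul_simple_pow a b
      rwa [h3] at this
    have h5 : cs.simple a * cs.simple b * (cs.simple a)⁻¹ * (cs.simple b)⁻¹ = 1 := by
      rw [cs.inv_simple, cs.inv_simple, ← h4, pow_two]
      group
    rw [hcs, hcs, ← QuotientGroup.mk_inv, ← QuotientGroup.mk_inv, ← QuotientGroup.mk_mul,
      ← QuotientGroup.mk_mul, ← QuotientGroup.mk_mul, QuotientGroup.eq_one_iff,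
      Subgroup.mem_subgroupOf] at h5
    exact h5.1
  have hlab' := hlab hab
  have hm : M a b = 3 ∨ M a b = 4 ∨ M a b = 6 ∨ M a b = 8 := by omega
  -- the building
  set Δ := bldg P (Equiv.refl P.S) cs hcs with hΔ
  have hfinW : Finite (P.N ⧸ (P.B ⊓ P.N).subgroupOf P.N) := inferInstance
  set c : G ⧸ P.B := QuotientGroup.mk (1 : G) with hc
  have H0 : Split Δ c V := split_of_bn P hVB hVn hVnil hVT (Equiv.refl P.S) cs hcs
  have H1 := split_pr H0
  have H := split_fit H1
  have hf : ∀ g : PG G (G ⧸ P.B), (∀ x : G ⧸ P.B, g • x = x) → g = 1 := by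
    intro g hg
    exact Subtype.ext (Equiv.ext hg)
  have huf : pr G (G ⧸ P.B) u ∈ fit (PG G (G ⧸ P.B)) c := by
    have h1 : V.map (pr G (G ⧸ P.B)) ≤ fit (PG G (G ⧸ P.B)) c := by
      refine le_fit _ (fun v hv => mem_stabilizer_iff.mpr (H1.fix v hv)) H1.nilp
        (le_normalizer_of _ fun a ha b hb => H1.normal a (mem_stabilizer_iff.mp ha) b hb)
    exact h1 ⟨u, hu, rfl⟩
  -- the opposite chamber
  obtain ⟨n0, hn0⟩ := QuotientGroup.mk_surjective (w0 cs)
  have hcd : Δ.Opp c (QuotientGroup.mk (n0 : G)) := by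
    change Δ.δ c (QuotientGroup.mk (n0 : G)) = w0 cs
    rw [hΔ, hc, bldg_δ_mk, inv_one, one_mul, ← hn0]
    exact wt_of_mem P (self_mem_C _)
  have hud : pr G (G ⧸ P.B) u • (QuotientGroup.mk (n0 : G) : G ⧸ P.B) = QuotientGroup.mk (n0 : G) := by
    change (QuotientGroup.mk (u * n0) : G ⧸ P.B) = QuotientGroup.mk (n0 : G)
    rw [eq_comm, QuotientGroup.eq]
    have h1 := P.conj_mem (n0 : G)⁻¹ (inv_mem n0.2) u ⟨hVB hu, huN⟩
    rwa [inv_inv, mul_assoc] at h1
  -- the squares
  have hsq : M a b = 8 → IsSquare (2 * (Nat.card (Δ.Pan a c) - 1) * (Nat.card (Δ.Pan b c) - 1)) := by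
    intro h8
    have hidx : ((P.B ⊓ P.N).subgroupOf P.N).index = 16 := by
      have h1 := Tits.Labels.card_WJ_pair cs a b
      have h2 : ({a, b} : Set P.S) = Set.univ := by
        ext i
        simp only [Set.mem_insert_iff, Set.mem_singleton_iff, Set.mem_univ, iff_true]
        exact hI i
      rw [h2, Tits.Exchange.WJ_univ, h8, Subgroup.card_top] at h1
      exact h1
    have h1 := LieRecognition.FHSquare.isSquare_two_mul (P := P) hst hPS' hidx
    have h2 : ∀ i : P.S, LieRecognition.FeitHigmanGroup.q P (i : G) = Nat.card (Δ.Pan i c) - 1 := by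
      intro i
      have h3 := N168.two_lt_card H0 i
      rw [← Tits.Opp.card_star Δ (N168.param H0 i) (by omega) c]
      unfold LieRecognition.FeitHigmanGroup.q
      refine Nat.card_congr (Equiv.subtypeEquivRight fun y => ?_)
      induction y using QuotientGroup.induction_on with
      | _ y =>
      rw [LieRecognition.FeitHigmanGroup.R_mk_iff, hc, hΔ, bldg_δ_mk, inv_one, one_mul, hcs]
      exact (wt_eq_iff P y ⟨(i : G), P.subset i.2⟩).symm
    rw [h2 a, h2 b] at h1
    exact h1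
  have h1 := RankTwo.main T hS hR hI hm hf H hcd hsq huf hud
  have h2 := congrArg (fun g : PG G (G ⧸ P.B) => g • (QuotientGroup.mk x : G ⧸ P.B)) h1
  have h3 : (QuotientGroup.mk (u * x) : G ⧸ P.B) = QuotientGroup.mk x := h2
  rw [eq_comm, QuotientGroup.eq] at h3
  rwa [mul_assoc]

end Cfsg.Agent.H361.RankTwoBN
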