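import Cfsg.Agent.H361.RankTwoBN

/-!
Irreducible core-free (B,N)-pairs of rank at least two: the splitting is unique (modulo the table of the orders
of the known simple groups, the classification and the rank one fact).
-/

set_option autoImplicit false
set_option linter.unusedSectionVars false

namespace Cfsg.Agent.H361.SplitUnique

open Cfsg Cfsg.Agent.Tits.Core Cfsg.Agent.Tits.OppRes Cfsg.Agent.Tits.Rigid
open Cfsg.Agent.SplitTwo Cfsg.Agent.SplitTwo.Reducible Cfsg.Agent.SplitTwo.Glue MulAction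
open Cfsg.Agent.OrdDiv Cfsg.Agent.LieExceptional.BNPairCore Cfsg.Agent.Tits.OfBN

universe u

/-- `u` acts trivially on the parabolic subgroups of rank two which are not of type `2`. -/
theorem triv (T : OrderTable.{u}) (hS : ∀ (G : Type u) [Group G] [Finite G] [IsSimpleGroup G], IsKnownSimple' G)
    (hR : RankOneR.{u}) {G : Type u} [Group G] [Finite G] (P : Cfsg.BNPair G) {V : Subgroup G} (hVB : V ≤ P.B)
    (hVn : ∀ b ∈ P.B, ∀ u ∈ V, b * u * b⁻¹ ∈ V) (hVnil : Group.IsNilpotent V)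
    (hVT : V ⊔ (P.B ⊓ P.N) = P.B) {s t : G} (hs : s ∈ P.S) (ht : t ∈ P.S) (hst : s ≠ t)
    (hcomm : s * t * s⁻¹ * t⁻¹ ∉ P.B) {u : G} (hu : u ∈ V) (huN : u ∈ P.N) {x : G}
    (hx : x ∈ P.parabolic {s, t}) : x⁻¹ * u * x ∈ P.B := by
  have hJ : ({s, t} : Set G) ⊆ P.S := by
    rintro y (rfl | rfl) <;> assumption
  set X := P.parabolic {s, t} with hX
  have hBX : P.B ≤ X := Tits.Labels.B_le_parabolic
  have hsX : s ∈ X := Tits.Labels.mem_parabolic_of_mem (Or.inl rfl)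
  have htX : t ∈ X := Tits.Labels.mem_parabolic_of_mem (Or.inr rfl)
  have huN' : u ∈ Tits.Labels.NJ P {s, t} :=
    (le_sup_right : P.B ⊓ P.N ≤ Tits.Labels.NJ P {s, t}) ⟨hVB hu, huN⟩
  have h := RankTwoBN.main T hS hR (Tits.Labels.parBN P {s, t} hJ) (V := V.subgroupOf X)
    (Subgroup.comap_mono hVB) ?_ ?_ ?_ (s := ⟨s, hsX⟩) (t := ⟨t, htX⟩) (Or.inl rfl) (Or.inr rfl)
    (fun h => hst (congrArg Subtype.val h)) ?_ hcomm (u := ⟨u, hBX (hVB hu)⟩) hu huN' ⟨x, hx⟩
  · exact h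
  · intro b hb v hv
    exact hVn b hb v hv
  · exact Group.nilpotent_of_mulEquiv (Subgroup.subgroupOfEquivOfLe (hVB.trans hBX)).symm
  · change V.subgroupOf X ⊔ (P.B.subgroupOf X ⊓ (Tits.Labels.NJ P {s, t}).subgroupOf X) = P.B.subgroupOf X
    have h1 : P.B.subgroupOf X ⊓ (Tits.Labels.NJ P {s, t}).subgroupOf X = (P.B ⊓ P.N).subgroupOf X := by
      rw [← Tits.Labels.B_inf_NJ hJ]
      rfl
    rw [h1, ← Subgroup.subgroupOf_sup (hVB.trans hBX) (inf_le_left.trans hBX), hVT]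
  · rintro y (hy | hy)
    · exact Or.inl (Subtype.ext hy)
    · exact Or.inr (Subtype.ext hy)

/-- `V ⊓ N = 1`. -/
theorem inf_triv (T : OrderTable.{u})
    (hS : ∀ (G : Type u) [Group G] [Finite G] [IsSimpleGroup G], IsKnownSimple' G)
    (hR : RankOneR.{u}) {G : Type u} [Group G] [Finite G] (P : Cfsg.BNPair G) (h2 : 2 ≤ P.rank)
    (hirr : P.Irreducible) (hcore : P.B.normalCore = ⊥) {V : Subgroup G} (hVB : V ≤ P.B)
    (hVn : ∀ b ∈ P.B, ∀ u ∈ V, b * u * b⁻¹ ∈ V) (hVnil : Group.IsNilpotent V)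
    (hVT : V ⊔ (P.B ⊓ P.N) = P.B) {u : G} (hu : u ∈ V) (huN : u ∈ P.N) : u = 1 := by
  obtain ⟨M, hBN⟩ := Tits.Labels.exists_bnType P
  obtain ⟨hNn, cs, hcs⟩ := hBN
  have hfin : Finite P.S := Nat.finite_of_card_ne_zero (by
    have : 2 ≤ Nat.card P.S := h2
    omega)
  set Δ := bldg P (Equiv.refl P.S) cs hcs with hΔ
  have hfinW : Finite (P.N ⧸ (P.B ⊓ P.N).subgroupOf P.N) := inferInstance
  set c : G ⧸ P.B := QuotientGroup.mk (1 : G) with hc
  have H0 : Split Δ c V := split_of_bn P hVB hVn hVnil hVT (Equiv.refl P.S) cs hcs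
  obtain ⟨n0, hn0⟩ := QuotientGroup.mk_surjective (w0 cs)
  have hcd : Δ.Opp c (QuotientGroup.mk (n0 : G)) := by
    change Δ.δ c (QuotientGroup.mk (n0 : G)) = w0 cs
    rw [hΔ, hc, bldg_δ_mk, inv_one, one_mul, ← hn0]
    exact wt_of_mem P (self_mem_C _)
  have hud : u • (QuotientGroup.mk (n0 : G) : G ⧸ P.B) = QuotientGroup.mk (n0 : G) := by
    change (QuotientGroup.mk (u * n0) : G ⧸ P.B) = QuotientGroup.mk (n0 : G)
    rw [eq_comm, QuotientGroup.eq]
    have h1 := P.conj_mem (n0 : G)⁻¹ (inv_mem n0.2) u ⟨hVB hu, huN⟩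
    rwa [inv_inv, mul_assoc] at h1
  have hp : ∀ k : P.S, ∀ x ∈ Δ.Pan k c, u • x = x := by
    intro k x hx
    rcases hx with rfl | hx
    · exact H0.fix u hu
    -- the other type
    obtain ⟨s, hs, t, ht, hst⟩ := hirr {(k : G)} (by
      rintro _ rfl
      exact k.2) ⟨k, rfl⟩ (by
        by_contra hcon
        rw [Set.not_nonempty_iff_eq_empty, Set.sdiff_eq_empty] at hcon
        have h3 : Nat.card P.S ≤ 1 := by
          rw [Nat.card_coe_set_eq]
          exact (Set.ncard_le_ncard hcon (Set.finite_singleton _)).trans (Set.ncard_singleton _).le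
        have : 2 ≤ Nat.card P.S := h2
        omega)
    rw [Set.mem_singleton_iff] at hs
    subst hs
    induction x using QuotientGroup.induction_on with
    | _ x =>
    rw [hc, hΔ, bldg_δ_mk, inv_one, one_mul, hcs] at hx
    have hx' := (wt_eq_iff P x ⟨(k : G), P.subset k.2⟩).1 hx
    obtain ⟨b₁, hb₁, b₂, hb₂, rfl⟩ := mem_C.1 hx'
    have hB : P.B ≤ P.parabolic {(k : G), t} := Tits.Labels.B_le_parabolic
    have hxX : b₁ * (k : G) * b₂ ∈ P.parabolic {(k : G), t} :=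
      mul_mem (mul_mem (hB hb₁) (Tits.Labels.mem_parabolic_of_mem (Or.inl rfl))) (hB hb₂)
    have h4 := triv T hS hR P hVB hVn hVnil hVT k.2 ht.1 (fun h => ht.2 h.symm) hst hu huN hxX
    change (QuotientGroup.mk (u * (b₁ * (k : G) * b₂)) : G ⧸ P.B) = QuotientGroup.mk (b₁ * (k : G) * b₂)
    rw [eq_comm, QuotientGroup.eq]
    rwa [mul_assoc] at h4
  have hf := faithful P hcore
  refine FaithfulSMul.eq_of_smul_eq_smul (α := G ⧸ P.B) fun x => ?_
  rw [one_smul]
  refine Cfsg.Agent.Tits.Rigid.rigid (Δ := Δ) (Δ' := Δ) H0.thick (J := Set.univ) (c := c)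
    (d := QuotientGroup.mk (n0 : G)) (φ := fun y => u • y) (ψ := fun y => y)
    (fun a _ b _ => H0.iso u a b) (fun a _ b _ => rfl) ?_ hcd hud x ?_
  · intro k _ y hy
    exact hp k y hy
  · rw [Δ.Res_univ]
    trivial

/-- **The splitting is unique.** -/
theorem unique (T : OrderTable.{u})
    (hS : ∀ (G : Type u) [Group G] [Finite G] [IsSimpleGroup G], IsKnownSimple' G)
    (hR : RankOneR.{u}) {G : Type u} [Group G] [Finite G] (P : Cfsg.BNPair G) (h2 : 2 ≤ P.rank)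
    (hirr : P.Irreducible) (hcore : P.B.normalCore = ⊥)
    (U U' : Subgroup G) (hU : U ≤ P.B) (hU' : U' ≤ P.B)
    (hUn : ∀ b ∈ P.B, ∀ u ∈ U, b * u * b⁻¹ ∈ U) (hU'n : ∀ b ∈ P.B, ∀ u ∈ U', b * u * b⁻¹ ∈ U')
    (hUnil : Group.IsNilpotent U) (hU'nil : Group.IsNilpotent U')
    (hUH : U ⊔ (P.B ⊓ P.N) = P.B) (hU'H : U' ⊔ (P.B ⊓ P.N) = P.B) : U = U' := by
  -- the Fitting subgroup of `B`
  set V : Subgroup G := (fittingSubgroup P.B).map P.B.subtype with hV
  have hVB : V ≤ P.B := Subgroup.map_subtype_le _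
  have hVn : ∀ b ∈ P.B, ∀ u ∈ V, b * u * b⁻¹ ∈ V := fun b hb u hu =>
    conj_mem G (Lib.LocalCore.le_normalizer_map_fittingSubgroup _) hb hu
  have hVnil : Group.IsNilpotent V := by
    have := Lib.Cores.fittingSubgroup_isNilpotent (G := P.B)
    exact (Lib.Cores.isNilpotent_map_equiv P.B.subtype_injective _).mpr this
  have key : ∀ W : Subgroup G, W ≤ P.B → (∀ b ∈ P.B, ∀ u ∈ W, b * u * b⁻¹ ∈ W) →
      Group.IsNilpotent W → W ⊔ (P.B ⊓ P.N) = P.B → W = V := by
    intro W hW hWn hWnil hWH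
    have hWV : W ≤ V := Lib.LocalCore.le_map_fittingSubgroup hW hWnil (le_normalizer_of G hWn)
    have hVT : V ⊔ (P.B ⊓ P.N) = P.B := by
      apply le_antisymm
      · exact sup_le hVB inf_le_left
      · conv_lhs => rw [← hWH]
        exact sup_le_sup_right hWV _
    refine le_antisymm hWV fun v hv => ?_
    have hvB : v ∈ W ⊔ (P.B ⊓ P.N) := by
      rw [hWH]
      exact hVB hv
    have hnorm : (P.B ⊓ P.N) ≤ Subgroup.normalizer (W : Set G) :=
      le_normalizer_of G fun t ht u hu => hWn t ht.1 u hu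
    rw [← SetLike.mem_coe, Subgroup.coe_mul_of_right_le_normalizer_left _ _ hnorm] at hvB
    obtain ⟨w, hw, t, ht, rfl⟩ := hvB
    have htV : t ∈ V := by
      have h1 := mul_mem (inv_mem (hWV hw)) hv
      simpa using h1
    have ht1 := inf_triv T hS hR P h2 hirr hcore hVB hVn hVnil hVT htV ht.2
    simp only [ht1, mul_one]
    exact hw
  rw [key U hU hUn hUnil hUH, key U' hU' hU'n hU'nil hU'H]

end Cfsg.Agent.H361.SplitUnique
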