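import Cfsg.Agent.H421.OddCoc
import Cfsg.Agent.H621.TwoElt.Sl

/-!
# Cocliques of primes `r` without elements of order `2^(m+1) r` in `PSL_l(u)`, `PSU_l(u)`, `u` odd (helper361)

* `psl_card`, `psu_card` : such a coclique has at most `2^(m-1) + 1` members.
-/

set_option autoImplicit false

namespace Cfsg.Agent.H361.T16

open Matrix Cfsg.Agent.H376.Coc Cfsg.Agent.H376

section psl

variable {F : Type*} [Field F]

/-- two blocks of coprime orders in `PSL_n` -/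
theorem psl_blocks {a b n x s : ℕ} (h : a + b ≤ n) (ha : a ≠ 0) (hb : b ≠ 0) (hcop : Nat.Coprime x s)
    (hxa : ∃ A : Matrix.SpecialLinearGroup (Fin a) F, orderOf A = x)
    (hsb : ∃ B : Matrix.SpecialLinearGroup (Fin b) F, orderOf B = s) :
    ∃ g : Matrix.ProjectiveSpecialLinearGroup (Fin n) F, orderOf g = x * s := by
  obtain ⟨A, hA⟩ := hxa
  obtain ⟨B, hB⟩ := hsb
  obtain ⟨φ, hφ, h1⟩ := exists_phi (F := F) h
  have hord : orderOf (φ (A, B)) = x * s := by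
    rw [orderOf_injective _ hφ, Prod.orderOf_mk, hA, hB, hcop.lcm_eq_mul]
  refine ⟨QuotientGroup.mk (φ (A, B)), ?_⟩
  rw [orderOf_mk_of, hord]
  intro k hk
  obtain ⟨r, hr⟩ := center_scalar hk
  rw [← map_pow] at hr
  obtain ⟨h2, h3⟩ := h1 _ r hr
  have h2' : (A ^ k).1 = r • 1 := h2
  have h3' : (B ^ k).1 = r • 1 := h3
  have key : ∀ (d t : ℕ) (hd : d ≠ 0) (M : Matrix.SpecialLinearGroup (Fin d) F), orderOf M = t →
      (M ^ k).1 = r • 1 → r ^ t = 1 := by
    intro d t hd M hM hMk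
    have h4 : ((M ^ k) ^ t).1 = 1 := by
      rw [← pow_mul, mul_comm, pow_mul, ← hM, pow_orderOf_eq_one, one_pow]
      rfl
    rw [Matrix.SpecialLinearGroup.coe_pow, hMk, smul_pow, one_pow] at h4
    have h5 := congrFun (congrFun h4 ⟨0, Nat.pos_of_ne_zero hd⟩) ⟨0, Nat.pos_of_ne_zero hd⟩
    simpa using h5
  have h6 := key a x ha A hA h2'
  have h7 := key b s hb B hB h3'
  have hr1 : r = 1 := by
    have h8 : orderOf r ∣ Nat.gcd x s :=
      Nat.dvd_gcd (orderOf_dvd_of_pow_eq_one h6) (orderOf_dvd_of_pow_eq_one h7)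
    rw [hcop] at h8
    exact orderOf_eq_one_iff.1 (Nat.dvd_one.1 h8)
  rw [← map_pow]
  have h9 : ((A, B) : Matrix.SpecialLinearGroup (Fin a) F × Matrix.SpecialLinearGroup (Fin b) F) ^ k
      = 1 := by
    rw [hr1, one_smul] at h2' h3'
    exact Prod.ext (Subtype.ext h2') (Subtype.ext h3')
  rw [h9, map_one]

theorem coprime_two_pow {s k : ℕ} (hs : s.Prime) (h5 : 5 ≤ s) : Nat.Coprime (2 ^ k) s :=
  Nat.Coprime.pow_left _ ((Nat.coprime_primes Nat.prime_two hs).2 (by omega))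

variable [Fintype F]

/-- **`PSL_l(u)`, `u` odd** : a coclique of primes `s ≥ 5` without elements of order `2^(m+1) s`. -/
theorem psl_card (hF : Odd (Fintype.card F)) {l m : ℕ} (hm : 2 ≤ m) (hl : 2 ≤ l) {C : Finset ℕ}
    (hC : IsCoc (Matrix.ProjectiveSpecialLinearGroup (Fin l) F) C) (h5 : ∀ s ∈ C, 5 ≤ s)
    (hN : ∀ s ∈ C, ¬ ∃ g : Matrix.ProjectiveSpecialLinearGroup (Fin l) F, orderOf g = 2 ^ (m + 1) * s) :
    C.card ≤ 2 ^ (m - 1) + 1 := by
  classical
  have hk2 : 2 ≤ 2 ^ (m - 1) := by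
    calc 2 = 2 ^ 1 := by norm_num
      _ ≤ 2 ^ (m - 1) := Nat.pow_le_pow_right (by norm_num) (by omega)
  by_cases hl3 : l ≤ 3
  · have := psl_coclique_three hC hl hl3 h5
    omega
  by_cases hlk : l ≤ 2 ^ (m - 1) + 2
  · have := psl_coclique_gen hC (by omega)
    omega
  obtain ⟨k, hk⟩ : ∃ k, k = 2 ^ (m - 1) + 1 := ⟨_, rfl⟩
  have hB : ∃ B : Matrix.SpecialLinearGroup (Fin k) F, orderOf B = 2 ^ (m + 1) := by
    obtain ⟨x, hx, -⟩ := H621.TwoElt.exists_sl (F := F) (l := k) (m := m) hF hm (by omega)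
    exact ⟨x, hx⟩
  have hlab : ∀ s ∈ C, l - k < orderOf ((Fintype.card F : ℕ) : ZMod s) ∧
      orderOf ((Fintype.card F : ℕ) : ZMod s) ≤ l := by
    intro s hs
    refine psl_label (hC.prime s hs) (by omega) (by omega) (hC.dvd s hs) ?_
    intro h
    have := Fact.mk (hC.prime s hs)
    exact hN s hs (psl_blocks (a := k) (b := l - k) (by omega) (by omega) (by omega)
      (coprime_two_pow (hC.prime s hs) (h5 s hs)) hB (exists_prime_orderOf_dvd_card' s h))
  have h1 := card_le_of_inj' (C := C) (T := Finset.Ioc (l - k) l)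
    (fun s => orderOf ((Fintype.card F : ℕ) : ZMod s))
    (fun s hs => Finset.mem_Ioc.2 (hlab s hs))
    (fun s hs t ht hst => by
      by_contra hne
      exact hC.indep s hs t ht hne (psl_adj_same (hC.prime s hs) (hC.prime t ht) hne
        (by have := (hlab t ht).1; omega) (hlab t ht).2 hst rfl))
  rw [Nat.card_Ioc] at h1
  omega

end psl

section psu

open Cfsg.Agent.H186 Cfsg.Agent.ClassicalGeometry.GUBasic Cfsg.Agent.H103.UniBlock Cfsg.Agent.H103.PGUUpper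
  Cfsg.Agent.H72.AdjPSU Cfsg.Agent.H127

variable {F : Type*} [Field F] [Fintype F] {q : ℕ}

theorem hasBlock_two_pow (hF : Fintype.card F = q ^ 2) (hq : Odd q) {m : ℕ} (hm : 2 ≤ m) :
    HasBlock F q (2 ^ (m - 1) + 1) (2 ^ (m + 1)) := by
  obtain ⟨j, hj⟩ : ∃ j, 2 ^ (m - 1) = 2 * j := ⟨2 ^ (m - 2), by
    rw [← pow_succ', show m - 2 + 1 = m - 1 by omega]⟩
  have h3 := H421.OddCoc.two_pow_dvd' (m := m) hq (by omega)
  rw [hj] at h3 ⊢
  refine H421.OddCoc.hasBlock_even_succ hF (j := j) ?_ h3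
  rintro rfl
  simp at hj

/-- **`PSU_l(u)`, `u` odd** : a coclique of primes `s ≥ 5` without elements of order `2^(m+1) s`. -/
theorem psu_card (hF : Fintype.card F = q ^ 2) (hq : Odd q) {l m : ℕ} (hm : 2 ≤ m) (hl : 3 ≤ l)
    (hlm : l = 3 → 3 ≤ m) {C : Finset ℕ}
    (hC : IsCoc (Cfsg.PSU l F q) C) (h5 : ∀ s ∈ C, 5 ≤ s)
    (hN : ∀ s ∈ C, ¬ ∃ g : Cfsg.PSU l F q, orderOf g = 2 ^ (m + 1) * s) :
    C.card ≤ 2 ^ (m - 1) + 1 := by
  classical
  have hk2 : 2 ≤ 2 ^ (m - 1) := by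
    calc 2 = 2 ^ 1 := by norm_num
      _ ≤ 2 ^ (m - 1) := Nat.pow_le_pow_right (by norm_num) (by omega)
  have hρ : ∀ r ∈ C, r.Prime ∧ r ∣ Nat.card (Cfsg.PSU l F q) := fun r hr => ⟨hC.prime r hr, hC.dvd r hr⟩
  by_cases hl3 : l = 3
  · have h4 : 4 ≤ 2 ^ (m - 1) := by
      calc 4 = 2 ^ 2 := by norm_num
        _ ≤ 2 ^ (m - 1) := Nat.pow_le_pow_right (by norm_num) (by have := hlm hl3; omega)
    rcases C.eq_empty_or_nonempty with h | ⟨s, hs⟩
    · rw [h, Finset.card_empty]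
      omega
    · have := (card_coclique hF hl hρ hC.indep hs).1
      omega
  by_cases hlk : l ≤ 2 ^ (m - 1) + 2
  · have := H421.OddCoc.psu_coclique_half hF (by omega) hC
    omega
  obtain ⟨k, hk⟩ : ∃ k, k = 2 ^ (m - 1) + 1 := ⟨_, rfl⟩
  have hB : HasBlock F q k (2 ^ (m + 1)) := by
    rw [hk]
    exact hasBlock_two_pow hF hq hm
  have hw : ∀ s ∈ C, l - k < wU q s := by
    intro s hs
    by_contra hle
    exact hN s hs (exists_order_of_blocks hF hl hB (hasBlock_wU hF (hC.prime s hs)) (by omega)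
      (wU_pos (hC.prime s hs)) (by omega) (coprime_two_pow (hC.prime s hs) (h5 s hs)) _ dvd_rfl)
  have hnq : ∀ s ∈ C, ¬ s ∣ q ∧ l - k < nu q s := by
    intro s hs
    have h1 := hw s hs
    rw [wU] at h1
    split_ifs at h1 with h2
    · omega
    · rw [not_or] at h2
      exact ⟨h2.1, h1⟩
  have h2 : C.card ≤ (Finset.Ioc (l - k) l).card := by
    refine Finset.card_le_card_of_injOn (nu q) ?_ ?_
    · intro s hs
      exact Finset.mem_coe.2 (Finset.mem_Ioc.2 ⟨(hnq s hs).2, nu_le hF (by omega) (hC.prime s hs) (hnq s hs).1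
        (hC.dvd s hs)⟩)
    · intro r hr s hs hrs
      by_contra hne
      exact hC.indep r hr s hs hne (adj_of_nu hF (by omega) (hC.prime r hr) (hC.prime s hs) hne (hnq r hr).1 hrs
        (nu_le hF (by omega) (hC.prime r hr) (hnq r hr).1 (hC.dvd r hr)))
  rw [Nat.card_Ioc] at h2
  omega

end psu

end Cfsg.Agent.H361.T16
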