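import Cfsg.Agent.H361.T16OrthElt

/-!
# Cocliques of primes `r` without elements of order `16 r` in `PΩ^±_{2m}(u)`, `u` odd (helper361)
-/

set_option autoImplicit false

namespace Cfsg.Agent.H361.T16

open Cfsg Cfsg.Agent.H377 Cfsg.Agent.H72.AdjOrth Cfsg.Agent.H72.AdjCoc Cfsg.Agent.H72.AdjSp

section count

variable {q m : ℕ} {adj : ℕ → ℕ → Prop} {P : ℕ → Prop} {ρ top : Finset ℕ}

/-- all members of the coclique have weight `≥ m - 4` : at most 7 members -/
theorem orth_count (hm : 4 ≤ m) (hprime : ∀ s ∈ ρ, s.Prime) (h5 : ∀ s ∈ ρ, 5 ≤ s) {p : ℕ} (hqp : ∀ s ∈ ρ, s ∣ q → s = p)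
    (hclass : ∀ s ∈ ρ, s ≠ 2 → ¬ s ∣ q → P (ee q s))
    (hcoc : ∀ r ∈ ρ, ∀ s ∈ ρ, r ≠ s → ¬ adj r s)
    (hblk : ∀ r s : ℕ, r.Prime → s.Prime → r ≠ s → wO q r + wO q s + 1 ≤ m → adj r s)
    (hclq : ∀ r s : ℕ, r.Prime → s.Prime → r ≠ 2 → s ≠ 2 → r ≠ s → ¬ r ∣ q → ¬ s ∣ q → ee q r = ee q s →
      P (ee q r) → adj r s)
    (htop : top.card ≤ 1) (hT : ∀ lo k, P k → lo < eta k → k ∈ cl lo (m - 1) ∪ top)
    (hw : ∀ s ∈ ρ, m ≤ wO q s + 4) : ρ.card ≤ 7 := by
  classical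
  have hcl : ∀ lo, (cl lo (m - 1) ∪ top).card ≤ (m - 1 - lo) + (m / 2 - (lo + 1) / 2) + 1 := by
    intro lo
    have h1 := card_cl_le lo (m - 1)
    have h4 := Finset.card_union_le (cl lo (m - 1)) top
    rw [show m - 1 + 1 = m by omega] at h1
    omega
  have hne2 : ∀ s ∈ ρ, s ≠ 2 := fun s hs h => by have := h5 s hs; omega
  -- all members of weight `> lo ≥ 2`
  have big : ∀ lo, 2 ≤ lo → (∀ s ∈ ρ, lo < wO q s) → ρ.card ≤ (m - 1 - lo) + (m / 2 - (lo + 1) / 2) + 1 := by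
    intro lo hlo hwl
    refine le_trans (card_filter_le hprime hclass hcoc hclq (T := cl lo (m - 1) ∪ top) ρ (Finset.Subset.refl _) ?_ ?_)
      (hcl lo)
    · intro s hs
      refine ⟨hne2 s hs, fun h => ?_⟩
      have h3 : wO q s = 2 := if_pos (Or.inr h)
      have := hwl s hs
      omega
    · intro s hs hP
      apply hT _ _ hP
      have h3 := hwl s hs
      rw [wO] at h3
      split_ifs at h3 with h4
      · omega
      · exact h3
  by_cases hm7 : 7 ≤ m
  · have := big (m - 5) (by omega) (fun s hs => by have := hw s hs; omega)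
    omega
  by_cases hx : ∃ x ∈ ρ, wO q x + 3 ≤ m
  · obtain ⟨x, hx, hxm⟩ := hx
    have h3 := coc_bound (c := 1) (T := cl (m - 1 - wO q x) (m - 1) ∪ top) hprime hclass hcoc hblk hclq hx (by omega) (by
      intro k hP hk
      apply hT _ _ hP
      omega)
    have h4 := hcl (m - 1 - wO q x)
    have h6 : 1 ≤ wO q x := by
      have hp := hprime x hx
      rw [wO]
      split_ifs with h
      · omega
      · rw [not_or] at h
        exact eta_pos (ee_pos hp h.2)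
    omega
  push Not at hx
  by_cases hm4 : m = 4
  · subst hm4
    have h1 : (ρ.erase p).card ≤ (cl 1 3 ∪ top).card := by
      refine card_filter_le hprime hclass hcoc hclq _ (Finset.erase_subset _ _) ?_ ?_
      · intro s hs
        obtain ⟨hsp, hs⟩ := Finset.mem_erase.1 hs
        exact ⟨hne2 s hs, fun h => hsp (hqp s hs h)⟩
      · intro s hs hP
        obtain ⟨hsp, hs⟩ := Finset.mem_erase.1 hs
        refine hT 1 _ hP ?_
        have h3 := hx s hs
        rw [wO, if_neg (not_or.2 ⟨hne2 s hs, fun h => hsp (hqp s hs h)⟩)] at h3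
        omega
    have h3 := hcl 1
    have h4 := Finset.pred_card_le_card_erase (s := ρ) (a := p)
    simp only [Nat.reduceSub, Nat.reduceAdd, Nat.reduceDiv] at h3
    omega
  · have := big (m - 3) (by omega) (fun s hs => by have := hx s hs; omega)
    omega

end count

section groups

variable {F : Type*} [Field F] [Finite F] {m : ℕ} {ρ : Finset ℕ}

theorem elt_sixteen (h2 : (2 : F) ≠ 0) : Elt F 4 1 16 := by
  have h1 := H421.OddCoc.two_pow_dvd' (u := Nat.card F) (m := 3) (odd_card_of_two h2) (by norm_num)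
  exact elt_tor_plus (by norm_num) (by simpa using h1)

theorem lcm_sixteen {s : ℕ} (hs : s.Prime) (h5 : 5 ≤ s) : Nat.lcm s 16 = 16 * s := by
  rw [Nat.Coprime.lcm_eq_mul, mul_comm]
  rw [show 16 = 2 ^ 4 by norm_num]
  exact Nat.Coprime.pow_right _ ((Nat.coprime_primes hs Nat.prime_two).2 (by omega))

/-- **`PΩ⁺_{2m}(u)`, `u` odd** : a coclique of primes `s ≥ 5` without elements of order `16 s`. -/
theorem plus_card (h2 : (2 : F) ≠ 0) (hm : 4 ≤ m)
    (hρ : ∀ r ∈ ρ, r.Prime ∧ r ∣ Nat.card (POmega F (quadFormPlus m F)))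
    (hc : ∀ r ∈ ρ, ∀ s ∈ ρ, r ≠ s → ¬ ∃ z : POmega F (quadFormPlus m F), orderOf z = r * s)
    (h5 : ∀ s ∈ ρ, 5 ≤ s)
    (hN : ∀ s ∈ ρ, ¬ ∃ g : POmega F (quadFormPlus m F), orderOf g = 16 * s) : ρ.card ≤ 7 := by
  classical
  let _ := Fintype.ofFinite F
  obtain ⟨p, -, -, hp⟩ := prime_dvd_card F
  refine orth_count (q := Nat.card F) (adj := fun r s => ∃ z : POmega F (quadFormPlus m F), orderOf z = r * s)
    (P := fun k => eta k < m ∨ (eta k = m ∧ sg k = 1)) (top := topP m) hm (fun s hs => (hρ s hs).1) h5 (p := p)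
    (fun s hs h => hp s (hρ s hs).1 h)
    (fun s hs _ hsq => plus_class hm (hρ s hs).1 hsq (hρ s hs).2) hc
    (fun r s hr hs hrs h => plus_adj hm hr hs hrs h)
    (fun r s hr hs hr2 hs2 hrs hrq hsq h hk => plus_clq hm hr hs hr2 hs2 hrs hrq hsq h hk) ?_ ?_ ?_
  · have := card_topP m
    omega
  · intro lo k hk hlo
    rw [Finset.mem_union, mem_cl]
    rcases hk with hk | hk
    · left
      omega
    · exact Or.inr (mem_topP hk.1 hk.2)
  · intro s hs
    by_contra hlt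
    have hsp := (hρ s hs).1
    have hs5 := h5 s hs
    obtain ⟨ε, hε, h1⟩ := exists_elt_wO (F := F) hsp (by omega)
    obtain ⟨g, hg⟩ := plus_blocks h2 hm (wO_pos hsp) (by omega) hε (Or.inl rfl)
      (hsp.odd_of_ne_two (by omega)) h1 (elt_sixteen h2)
    exact hN s hs ⟨g, by rw [hg, lcm_sixteen hsp hs5]⟩

/-- **`PΩ⁻_{2m}(u)`, `u` odd** : a coclique of primes `s ≥ 5` without elements of order `16 s`. -/
theorem minus_card (h2 : (2 : F) ≠ 0) (hm : 4 ≤ m) {a b : F}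
    (hab : ∀ z₁ z₂ : F, z₁ ^ 2 + a * z₁ * z₂ + b * z₂ ^ 2 = 0 → z₁ = 0 ∧ z₂ = 0)
    (hρ : ∀ r ∈ ρ, r.Prime ∧ r ∣ Nat.card (POmega F (quadFormMinus (m - 1) F a b)))
    (hc : ∀ r ∈ ρ, ∀ s ∈ ρ, r ≠ s → ¬ ∃ z : POmega F (quadFormMinus (m - 1) F a b), orderOf z = r * s)
    (h5 : ∀ s ∈ ρ, 5 ≤ s)
    (hN : ∀ s ∈ ρ, ¬ ∃ g : POmega F (quadFormMinus (m - 1) F a b), orderOf g = 16 * s) : ρ.card ≤ 7 := by
  classical
  let _ := Fintype.ofFinite F
  obtain ⟨p, -, -, hp⟩ := prime_dvd_card F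
  refine orth_count (q := Nat.card F)
    (adj := fun r s => ∃ z : POmega F (quadFormMinus (m - 1) F a b), orderOf z = r * s)
    (P := fun k => k ≠ 0 → (eta k < m ∨ (eta k = m ∧ sg k = -1))) (top := {2 * m}) hm (fun s hs => (hρ s hs).1) h5 (p := p)
    (fun s hs h => hp s (hρ s hs).1 h)
    (fun s hs hs2 hsq _ => minus_class hm hab (hρ s hs).1 hs2 hsq (hρ s hs).2) hc
    (fun r s hr hs hrs h => minus_adj hm hab hr hs hrs h)
    (fun r s hr hs hr2 hs2 hrs hrq hsq h hk => minus_clq hm hab hr hs hr2 hs2 hrs hrq hsq h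
      (hk (by have := ee_pos hr hrq; omega))) ?_ ?_ ?_
  · rw [Finset.card_singleton]
  · intro lo k hk hlo
    rw [Finset.mem_union, mem_cl]
    have hk0 : k ≠ 0 := by
      rintro rfl
      have : eta 0 = 0 := rfl
      omega
    rcases hk hk0 with hk | hk
    · left
      omega
    · exact Or.inr (mem_topM hk.1 hk.2)
  · intro s hs
    by_contra hlt
    have hsp := (hρ s hs).1
    have hs5 := h5 s hs
    obtain ⟨ε, hε, h1⟩ := exists_elt_wO (F := F) hsp (by omega)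
    obtain ⟨g, hg⟩ := minus_blocks h2 hm hab (wO_pos hsp) (by omega) hε (Or.inl rfl)
      (hsp.odd_of_ne_two (by omega)) h1 (elt_sixteen h2)
    exact hN s hs ⟨g, by rw [hg, lcm_sixteen hsp hs5]⟩

end groups

end Cfsg.Agent.H361.T16
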