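import Cfsg.Agent.H72.AdjCoc
import Cfsg.Agent.H421.OddCoc

/-!
# Elements of `PΩ^±_{2m}(u)`, `u` odd, of order `lcm s M` from two blocks and a correcting plane (helper361)

* `exists_corr` : an isometry fixing `u`, `v`, `Q u` a nonzero square, `Q v` a nonsquare, can be corrected by reflections so as to
  lie in `Ω`;
* `exists_of_isom_fix` : transfer to `PΩ`;
* `plus_blocks`, `minus_blocks` : `Elt F a ε s` (`s` odd), `Elt F b ε' M`, `a + b + 1 ≤ m` give an element of order `lcm s M`.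
-/

set_option autoImplicit false

namespace Cfsg.Agent.H361.T16

open QuadraticMap Matrix Cfsg Cfsg.Agent.H377 Cfsg.Agent.ClassicalGeometry.Reflection
  Cfsg.Agent.ClassicalGeometry.OmegaIndex Cfsg.Agent.LieClassical.OrthCore Cfsg.Agent.LieClassical.OrthForms

section corr

variable {F : Type*} [Field F] [Finite F] {ι : Type} [Fintype ι] [DecidableEq ι]

omit [Finite F] in
theorem reflIso_fix (Q : QuadraticForm F (ι → F)) {v x : ι → F} (hv : Q v ≠ 0) (h : polar Q x v = 0) :
    ((reflIso Q v hv : Matrix.GeneralLinearGroup ι F) : Matrix ι ι F) *ᵥ x = x := by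
  rw [coe_reflIso]
  exact reflectionMatrix_mulVec_of_polar_eq_zero Q v x (by rw [polar_comm] at h; exact h)

/-- an isometry can be corrected by reflections in two given vectors so as to lie in `Ω` -/
theorem exists_corr (h2 : (2 : F) ≠ 0) (Q : QuadraticForm F (ι → F)) (hQ : (polarBilin Q).Nondegenerate) {c : F}
    (hc : c ≠ 0) (u v : ι → F) (hu0 : Q u ≠ 0) (hu : IsSquare (c * Q u)) (hv : ¬ IsSquare (c * Q v))
    (g : isometryGroup F (⇑Q)) :
    ∃ R : isometryGroup F (⇑Q), g * R ∈ Omega F (⇑Q) ∧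
      ∀ x, polar Q x u = 0 → polar Q x v = 0 → ((R : Matrix.GeneralLinearGroup ι F) : Matrix ι ι F) *ᵥ x = x := by
  have hv0 : Q v ≠ 0 := by
    intro h
    rw [h, mul_zero] at hv
    exact hv IsSquare.zero
  have key : ∀ R : isometryGroup F (⇑Q), Abelianization.of R = (Abelianization.of g)⁻¹ → g * R ∈ Omega F (⇑Q) := by
    intro R hR
    have h1 : Abelianization.of (g * R) = 1 := by rw [map_mul, hR, mul_inv_cancel]
    exact (QuotientGroup.eq_one_iff (g * R)).1 h1
  have hsq : ∀ (w : ι → F) (hw : Q w ≠ 0), (Abelianization.of (reflIso Q w hw))⁻¹ = Abelianization.of (reflIso Q w hw) := by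
    intro w hw
    rw [← map_inv, reflIso_inv]
  rcases abelianization_cases h2 Q hQ hc u v hu0 hv0 hu hv (Abelianization.of g) with h | h | h | h
  · exact ⟨1, key 1 (by rw [h, map_one, inv_one]), fun x _ _ => Matrix.one_mulVec x⟩
  · exact ⟨reflIso Q u hu0, key _ (by rw [h, hsq]), fun x hx _ => reflIso_fix Q hu0 hx⟩
  · exact ⟨reflIso Q v hv0, key _ (by rw [h, hsq]), fun x _ hx => reflIso_fix Q hv0 hx⟩
  · refine ⟨reflIso Q u hu0 * reflIso Q v hv0, key _ ?_, fun x hx hx' => ?_⟩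
    · rw [h, map_mul, mul_inv, hsq, hsq]
    · rw [coe_mul_mulVec, reflIso_fix Q hv0 hx', reflIso_fix Q hu0 hx]

/-- **elements of `POmega` from isometries fixing two vectors** -/
theorem exists_of_isom_fix (h2 : (2 : F) ≠ 0) (Q : QuadraticForm F (ι → F)) (hQ : Nondeg Q)
    (h5 : 5 ≤ Fintype.card ι) {V : Type*} [AddCommGroup V] [Module F V] (Q' : QuadraticForm F V) (e : (ι → F) ≃ₗ[F] V)
    (c : F) (hc : c ≠ 0) (he : ∀ u, Q' (e u) = c * Q u) (T : Module.End F V) (hT : ∀ v, Q' (T v) = Q' v)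
    (u v : V) (hTu : T u = u) (hTv : T v = v) (hu0 : Q' u ≠ 0) (hu : IsSquare (Q' u)) (hv : ¬ IsSquare (Q' v))
    (N : ℕ) (hN1 : ∀ j : ℕ, (∀ x, polar Q' x u = 0 → polar Q' x v = 0 → (T ^ j) x = x) → N ∣ j)
    (hN2 : ∀ j : ℕ, (∀ x, polar Q' x u = 0 → polar Q' x v = 0 → (T ^ j) x = -x) → N ∣ j) :
    ∃ g : POmega F ⇑Q, orderOf g = N := by
  classical
  let φ : Module.End F V ≃ₐ[F] Matrix ι ι F := (e.symm.conjAlgEquiv F).trans LinearMap.toMatrixAlgEquiv'
  have hφ : ∀ (S : Module.End F V) (x : ι → F), (φ S).mulVec x = e.symm (S (e x)) := by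
    intro S x
    show (LinearMap.toMatrix' (e.symm.conj S)).mulVec x = _
    rw [LinearMap.toMatrix'_mulVec]
    rfl
  have hM : ∀ x, Q ((φ T).mulVec x) = Q x := by
    intro x
    apply mul_left_cancel₀ hc
    rw [← he, ← he, hφ, e.apply_symm_apply, hT]
  have hinj : ∀ x, (φ T).mulVec x = 0 → x = 0 := by
    intro x hx
    apply hQ
    intro y
    have h1 : polar Q ((φ T).mulVec x) ((φ T).mulVec y) = polar Q x y := by
      rw [polar, polar, ← Matrix.mulVec_add, hM, hM, hM]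
    rw [← h1, hx]
    simp [polar]
  have hunit : IsUnit (φ T) := by
    rw [← Matrix.mulVec_injective_iff_isUnit]
    intro x y hxy
    have h1 : (φ T).mulVec (x - y) = 0 := by
      rw [Matrix.mulVec_sub]
      exact sub_eq_zero.2 hxy
    exact sub_eq_zero.1 (hinj _ h1)
  obtain ⟨M, hM'⟩ := hunit
  have hmem : M ∈ isometryGroup F ⇑Q := by
    rw [Cfsg.Agent.LieClassical.OrthFinite.mem_isometryGroup_iff]
    intro x
    rw [hM']
    exact hM x
  let g : isometryGroup F ⇑Q := ⟨M, hmem⟩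
  have hpol : ∀ x y, polar Q' (e x) (e y) = c * polar Q x y := by
    intro x y
    rw [polar, polar, ← map_add, he, he, he]
    ring
  obtain ⟨R, hR, hRx⟩ := exists_corr h2 Q (nondegenerate_of_nondeg hQ) hc (e.symm u) (e.symm v)
    (by
      intro h
      apply hu0
      have h1 := he (e.symm u)
      rw [h, mul_zero, e.apply_symm_apply] at h1
      exact h1)
    (by rw [← he, e.apply_symm_apply]; exact hu) (by rw [← he, e.apply_symm_apply]; exact hv) g
  -- the set of vectors orthogonal to `u`, `v`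
  have hgx : ∀ x, ((g : Matrix.GeneralLinearGroup ι F) : Matrix ι ι F) *ᵥ x = e.symm (T (e x)) := by
    intro x
    change (M : Matrix ι ι F) *ᵥ x = _
    rw [hM', hφ]
  have hpow : ∀ (j : ℕ) (x : ι → F), polar Q' (e x) u = 0 → polar Q' (e x) v = 0 →
      (((g * R) ^ j : isometryGroup F ⇑Q) : Matrix.GeneralLinearGroup ι F).1 *ᵥ x = e.symm ((T ^ j) (e x)) := by
    intro j
    induction j with
    | zero =>
      intro x _ _
      rw [pow_zero, pow_zero]
      change (1 : Matrix ι ι F) *ᵥ x = e.symm (e x)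
      rw [Matrix.one_mulVec, e.symm_apply_apply]
    | succ j ih =>
      intro x hxu hxv
      have h3 : ((R : Matrix.GeneralLinearGroup ι F) : Matrix ι ι F) *ᵥ x = x := by
        apply hRx
        · have h4 := hpol x (e.symm u)
          rw [e.apply_symm_apply, hxu] at h4
          exact (mul_eq_zero.1 h4.symm).resolve_left hc
        · have h4 := hpol x (e.symm v)
          rw [e.apply_symm_apply, hxv] at h4
          exact (mul_eq_zero.1 h4.symm).resolve_left hc
      have hTpol : ∀ a b, polar Q' (T a) (T b) = polar Q' a b := by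
        intro a b
        rw [polar, polar, ← map_add, hT, hT, hT]
      rw [pow_succ]
      change ((((g * R) ^ j * (g * R) : isometryGroup F ⇑Q) : Matrix.GeneralLinearGroup ι F) : Matrix ι ι F) *ᵥ x = _
      rw [coe_mul_mulVec, coe_mul_mulVec, h3, hgx]
      have h5 := ih (e.symm (T (e x))) (by rw [e.apply_symm_apply, ← hTu, hTpol]; exact hxu)
        (by rw [e.apply_symm_apply, ← hTv, hTpol]; exact hxv)
      rw [e.apply_symm_apply] at h5
      refine h5.trans ?_
      rw [pow_succ]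
      rfl
  let z : Omega F ⇑Q := ⟨g * R, hR⟩
  have hs : ∃ u : ι → F, u ≠ 0 ∧ Q u = 0 := by
    obtain ⟨w, -, h1, h2⟩ := Cfsg.Agent.LieClassical.OrthFinite.exists_sing_mem (Q := Q) (⊤ : Submodule F (ι → F)) (by
      rw [finrank_top, Module.finrank_fintype_fun_eq_card]
      omega)
    exact ⟨w, h1, h2⟩
  have hdvd : N ∣ orderOf (QuotientGroup.mk z : POmega F ⇑Q) := by
    obtain ⟨j, hj⟩ : ∃ j, j = orderOf (QuotientGroup.mk z : POmega F ⇑Q) := ⟨_, rfl⟩
    rw [← hj]
    have h6 : (QuotientGroup.mk z : POmega F ⇑Q) ^ j = 1 := by rw [hj]; exact pow_orderOf_eq_one _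
    rw [← QuotientGroup.mk_pow, QuotientGroup.eq_one_iff,
      Cfsg.Agent.LieClassical.OrthCenter.mem_center_omega_iff (nondegenerate_of_nondeg hQ) (by omega) hs] at h6
    have h7 : ((((z ^ j : Omega F ⇑Q) : isometryGroup F ⇑Q) : Matrix.GeneralLinearGroup ι F) : Matrix ι ι F) =
        (((g * R) ^ j : isometryGroup F ⇑Q) : Matrix.GeneralLinearGroup ι F).1 := rfl
    rw [h7] at h6
    rcases h6 with h6 | h6
    · apply hN1
      intro x hxu hxv
      have h8 := hpow j (e.symm x) (by rw [e.apply_symm_apply]; exact hxu) (by rw [e.apply_symm_apply]; exact hxv)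
      rw [h6, Matrix.one_mulVec, e.apply_symm_apply] at h8
      exact (e.symm.injective h8).symm
    · apply hN2
      intro x hxu hxv
      have h8 := hpow j (e.symm x) (by rw [e.apply_symm_apply]; exact hxu) (by rw [e.apply_symm_apply]; exact hxv)
      rw [h6, Matrix.neg_mulVec, Matrix.one_mulVec, e.apply_symm_apply, ← map_neg] at h8
      exact (e.symm.injective h8).symm
  exact ⟨_, orderOf_pow_orderOf_div (orderOf_pos _).ne' hdvd⟩

end corr

section blocks

variable {F : Type*} [Field F] [Finite F]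

theorem prodMap_pow_apply {V W : Type*} [AddCommGroup V] [Module F V] [AddCommGroup W] [Module F W]
    (S : Module.End F V) (T : Module.End F W) (j : ℕ) (x : V) (y : W) :
    ((S.prodMap T : Module.End F (V × W)) ^ j) (x, y) = ((S ^ j) x, (T ^ j) y) := by
  rw [prodMap_pow']
  rfl

/-- the common part : a form, an isometry and the two vectors -/
theorem blocks_aux (h2 : (2 : F) ≠ 0) {a b c : ℕ} (ha : 1 ≤ a) (hc : 1 ≤ c) {ε ε' ε'' : ℤ} {s M : ℕ} (hs : Odd s)
    (h : Elt F a ε s) (h' : Elt F b ε' M) (hε : ε'' = 1 ∨ ε'' = -1) :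
    ∃ (Q' : QuadraticForm F ((Fin (2 * a) → F) × ((Fin (2 * b) → F) × (Fin (2 * c) → F))))
      (T : Module.End F ((Fin (2 * a) → F) × ((Fin (2 * b) → F) × (Fin (2 * c) → F))))
      (u v : (Fin (2 * a) → F) × ((Fin (2 * b) → F) × (Fin (2 * c) → F))), Nondeg Q' ∧
      HasSign (⇑Q') (a + (b + c)) (ε * (ε' * ε'')) ∧ (∀ x, Q' (T x) = Q' x) ∧ T u = u ∧ T v = v ∧ Q' u ≠ 0 ∧
      IsSquare (Q' u) ∧ ¬ IsSquare (Q' v) ∧
      (∀ j : ℕ, (∀ x, polar Q' x u = 0 → polar Q' x v = 0 → (T ^ j) x = x) → Nat.lcm s M ∣ j) ∧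
      (∀ j : ℕ, (∀ x, polar Q' x u = 0 → polar Q' x v = 0 → (T ^ j) x = -x) → Nat.lcm s M ∣ j) := by
  classical
  obtain ⟨hN0, Q, g, hQ, hs1, hg, ho⟩ := h
  obtain ⟨hN0', P, g', hP, hs2, hg', ho'⟩ := h'
  obtain ⟨-, R, -, hR, hs3, -, -⟩ := elt_one_pm (F := F) hc hε
  have hRn := nondegenerate_of_nondeg hR
  obtain ⟨u, hu⟩ := Cfsg.Agent.ClassicalGeometry.Universal.exists_map_eq_of_two_le h2 R hRn
    (by rw [Fintype.card_fin]; omega) 1
  obtain ⟨d, hd⟩ := FiniteField.exists_nonsquare (F := F) (by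
    intro h
    apply h2
    have := ringChar.Nat.cast_ringChar (R := F)
    rw [h] at this
    exact_mod_cast this)
  obtain ⟨v, hv⟩ := Cfsg.Agent.ClassicalGeometry.Universal.exists_map_eq_of_two_le h2 R hRn
    (by rw [Fintype.card_fin]; omega) d
  have hpol : ∀ (x : Fin (2 * a) → F) (y : Fin (2 * b) → F) (w : Fin (2 * c) → F),
      polar (sumQ Q (sumQ P R)) (x, (y, 0)) (0, (0, w)) = 0 := by
    intro x y w
    simp only [polar, sumQ_apply, Prod.fst_add, Prod.snd_add, add_zero, zero_add, QuadraticMap.map_zero]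
    ring
  refine ⟨sumQ Q (sumQ P R), g.prodMap (g'.prodMap (1 : Module.End F (Fin (2 * c) → F))), (0, (0, u)), (0, (0, v)),
    sumQ_nondeg hQ (sumQ_nondeg hP hR), hs1.prod (hs2.prod hs3), ?_, ?_, ?_, ?_, ?_, ?_, ?_, ?_⟩
  · rintro ⟨x, y, w⟩
    simp only [sumQ_apply, LinearMap.prodMap_apply, hg, hg', Module.End.one_apply]
  · simp only [LinearMap.prodMap_apply, map_zero, Module.End.one_apply]
  · simp only [LinearMap.prodMap_apply, map_zero, Module.End.one_apply]
  · simp only [sumQ_apply, QuadraticMap.map_zero, zero_add, hu]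
    exact one_ne_zero
  · simp only [sumQ_apply, QuadraticMap.map_zero, zero_add, hu]
    exact ⟨1, by ring⟩
  · simp only [sumQ_apply, QuadraticMap.map_zero, zero_add, hv]
    exact hd
  · intro j hj
    have h3 : ∀ (x : Fin (2 * a) → F) (y : Fin (2 * b) → F), (g ^ j) x = x ∧ (g' ^ j) y = y := by
      intro x y
      have h4 := hj (x, (y, 0)) (hpol x y u) (hpol x y v)
      rw [prodMap_pow_apply, prodMap_pow_apply] at h4
      exact ⟨congrArg Prod.fst h4, congrArg (fun z => z.2.1) h4⟩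
    apply Nat.lcm_dvd
    · rw [← ho]
      exact orderOf_dvd_of_pow_eq_one (LinearMap.ext fun x => (h3 x 0).1)
    · rw [← ho']
      exact orderOf_dvd_of_pow_eq_one (LinearMap.ext fun y => (h3 0 y).2)
  · intro j hj
    exfalso
    have : Nonempty (Fin (2 * a)) := ⟨⟨0, by omega⟩⟩
    have h3 : g ^ j = -1 := by
      refine LinearMap.ext fun x => ?_
      have h4 := hj (x, (0, 0)) (hpol x 0 u) (hpol x 0 v)
      rw [prodMap_pow_apply, prodMap_pow_apply] at h4
      exact congrArg Prod.fst h4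
    have h4 := neg_one_pow_ne hs (by rw [← ho]; exact pow_orderOf_eq_one g) j h3
    have h5 : (1 : Module.End F (Fin (2 * a) → F)) = -1 := h4.symm.trans h3
    have h6 := LinearMap.congr_fun h5 (fun _ => (1 : F))
    have h7 := congrFun h6 (Classical.arbitrary _)
    simp only [Module.End.one_apply, LinearMap.neg_apply, Pi.neg_apply] at h7
    apply h2
    linear_combination h7

/-- **two blocks in `PΩ⁺_{2m}(u)`** -/
theorem plus_blocks (h2 : (2 : F) ≠ 0) {a b m : ℕ} (hm : 4 ≤ m) (ha : 1 ≤ a) (hab : a + b + 1 ≤ m) {ε ε' : ℤ}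
    (hε : ε = 1 ∨ ε = -1) (hε' : ε' = 1 ∨ ε' = -1) {s M : ℕ} (hs : Odd s)
    (h : Elt F a ε s) (h' : Elt F b ε' M) : ∃ g : POmega F (quadFormPlus m F), orderOf g = Nat.lcm s M := by
  obtain ⟨Q', T, u, v, hQ, hsg, hT, hTu, hTv, hu0, hu, hv, hN1, hN2⟩ := blocks_aux h2 (c := m - a - b) ha (by omega) hs
    h h' (H72.AdjOrth.mul_pm hε hε')
  have h3 : ε * (ε' * (ε * ε')) = 1 := by
    have h4 := H72.AdjOrth.sq_pm hε
    have h5 := H72.AdjOrth.sq_pm hε'
    calc ε * (ε' * (ε * ε')) = (ε * ε) * (ε' * ε') := by ring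
      _ = 1 := by rw [h4, h5]; norm_num
  rw [h3, show a + (b + (m - a - b)) = m by omega] at hsg
  obtain ⟨e, he⟩ := exists_plus (m := m) (by omega) (by
    rw [Module.finrank_prod, Module.finrank_prod, Module.finrank_fin_fun, Module.finrank_fin_fun,
      Module.finrank_fin_fun]
    omega) Q' hQ hsg
  rw [← coe_plusForm]
  refine exists_of_isom_fix h2 (plusForm m F) (nondeg_plusForm m F) ?_ Q' e 1 one_ne_zero ?_ T hT u v hTu hTv hu0 hu hv _
    hN1 hN2
  · rw [Fintype.card_sum, Fintype.card_fin]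
    omega
  · intro u
    rw [he, one_mul, coe_plusForm]

/-- **two blocks in `PΩ⁻_{2m}(u)`** -/
theorem minus_blocks (h2 : (2 : F) ≠ 0) {a b m : ℕ} (hm : 4 ≤ m) {α β : F}
    (hαβ : ∀ z₁ z₂ : F, z₁ ^ 2 + α * z₁ * z₂ + β * z₂ ^ 2 = 0 → z₁ = 0 ∧ z₂ = 0) (ha : 1 ≤ a) (hab : a + b + 1 ≤ m) {ε ε' : ℤ}
    (hε : ε = 1 ∨ ε = -1) (hε' : ε' = 1 ∨ ε' = -1) {s M : ℕ} (hs : Odd s)
    (h : Elt F a ε s) (h' : Elt F b ε' M) : ∃ g : POmega F (quadFormMinus (m - 1) F α β), orderOf g = Nat.lcm s M := by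
  obtain ⟨Q', T, u, v, hQ, hsg, hT, hTu, hTv, hu0, hu, hv, hN1, hN2⟩ := blocks_aux h2 (c := m - a - b) ha (by omega) hs
    h h' (ε'' := -(ε * ε')) (by rcases H72.AdjOrth.mul_pm hε hε' with h | h <;> rw [h] <;> simp)
  have h3 : ε * (ε' * (-(ε * ε'))) = -1 := by
    have h4 := H72.AdjOrth.sq_pm hε
    have h5 := H72.AdjOrth.sq_pm hε'
    calc ε * (ε' * (-(ε * ε'))) = -((ε * ε) * (ε' * ε')) := by ring
      _ = -1 := by rw [h4, h5]; norm_num
  rw [h3, show a + (b + (m - a - b)) = m by omega] at hsg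
  obtain ⟨e, he⟩ := exists_minus (m := m) (by omega) (by
    rw [Module.finrank_prod, Module.finrank_prod, Module.finrank_fin_fun, Module.finrank_fin_fun,
      Module.finrank_fin_fun]
    omega) Q' hQ hsg hαβ
  rw [← coe_minusForm]
  refine exists_of_isom_fix h2 (minusForm (m - 1) F α β) (nondeg_minusForm (m - 1) F α β hαβ) ?_ Q' e 1 one_ne_zero ?_ T hT
    u v hTu hTv hu0 hu hv _ hN1 hN2
  · simp only [Fintype.card_sum, Fintype.card_fin]
    omega
  · intro u
    rw [he, one_mul, coe_minusForm]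

end blocks

end Cfsg.Agent.H361.T16
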